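import Cfsg.Agent.R3.Walk1
import Cfsg.Agent.Comp.DCent
import Cfsg.Agent.Comp.CenExt
import Cfsg.Agent.Fischer.ES
import Cfsg.Agent.Comp2.GenFitting
import Cfsg.Agent.Core.Cores

set_option autoImplicit false

/-! Centralisers of elements of permutation groups that are given by networks. -/

namespace Cfsg.Agent.H3x
open MulAction Subgroup Cfsg.Agent.Comp Cfsg.Agent.Schur Cfsg.Agent.R3 Cfsg.Agent.Fischer

variable {G : Type*} [Group G]

noncomputable def cenB (n B p : Nat) (R Th : List Net) (o : Nat) (z w : List Nat) (a N : Nat) : Bool :=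
  band (invZ Th (letters o) (pt 0)) (band (mem1 R z (pt (nat_lit 0)) (nat_lit 0)) (band (movB n B R z a)
    (Nat.ble N (walk n p Th w (moved n B R z B) (nat_lit 0) (nat_lit 0)))))

/-- an upper bound for the order of a centraliser -/
theorem cent_le {φ : G →* Equiv.Perm ℕ} (hinj : Function.Injective φ) {n B : ℕ} (hb : ∀ g, φ g ∈ Bd n)
    (hB : n ≤ 2 ^ B) (hn : 0 < n) {R Th T : List Net} (hR : TOK n R) (hT : TOK n Th)
    (hA : AllIn φ.range (Th ++ T)) {o : ℕ} (ho : Th.length = o) {p a N m : ℕ} {z w : List ℕ}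
    (h : cenB n B p R Th o z w a N = true) (ht : ∀ i < n, ∃ g, φ g 0 = i) (hG : Nat.card G = n * m)
    {t : G} (hz : φ t = ev (sig R) z) : Nat.card (centralizer ({t} : Set G)) * N ≤ (n - a) * m := by
  simp only [cenB, band_eq] at h
  obtain ⟨h1, h2, h3, h4⟩ := h
  have hM : φ.range ≤ Bd n := by rintro _ ⟨g, rfl⟩; exact hb g
  have := finite_of_le_Bd hM
  let H := φ.range ⊓ stabilizer (Equiv.Perm ℕ) 0
  let C := (centralizer ({t} : Set G)).map φ
  have hC : C ≤ φ.range := map_le_range _ _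
  have := Finite.Set.subset _ hC
  have k : ∀ c ∈ C, ∀ i, ev (sig R) z (c i) = c i ↔ ev (sig R) z i = i := by
    rintro _ ⟨c, hc, rfl⟩ i
    rw [← hz, ← Equiv.Perm.mul_apply, ← map_mul, ← mem_centralizer_singleton_iff.mp hc, map_mul,
      Equiv.Perm.mul_apply, (φ c).apply_eq_iff_eq]
  have a1 := walk_le hT (allIn_stab (H := H) (fun _ => Iff.rfl) hT hA ho h1) (inf_le_left.trans hM)
    (C.subgroupOf H) (fun g hg i hi => by
      rw [Bool.eq_iff_iff, testBit_moved hR hB _ hi,
        testBit_moved hR hB (i := g • i) _ (Bd.lt (hM g.2.1) hi)]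
      exact (k _ hg i).not) h4
  have a2 := (C.subgroupOf H).index_mul_card
  have a3 : Nat.card (C.subgroupOf H) = Nat.card (stabilizer C 0) := by
    rw [← card_map_of_injective H.subtype_injective, ← card_map_of_injective C.subtype_injective]
    congr 2
    ext g
    exact ⟨by rintro ⟨x, hx, rfl⟩; exact ⟨⟨x, hx⟩, x.2.2, rfl⟩,
      by rintro ⟨x, hx, rfl⟩; exact ⟨⟨x, hC x.2, hx⟩, x.2, rfl⟩⟩
  have a4 := (stabilizer C 0).index_mul_card
  have a5 : (stabilizer C 0).index ≤ n - a := by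
    have := fix_le hR hB h3
    rw [index_stabilizer]
    refine (Set.ncard_le_ncard (t := {i | i < n ∧ ev (sig R) z i = i}) ?_
      ((Set.finite_Iio n).subset fun _ h => h.1)).trans (by omega)
    rintro _ ⟨c, rfl⟩
    exact ⟨Bd.lt (hM (hC c.2)) hn, (k _ c.2 0).mpr (mem1_pt hR hn h2)⟩
  have a6 : Nat.card H ≤ m := by
    have e1 := (stabilizer φ.range 0).index_mul_card
    have e2 : n ≤ (stabilizer φ.range 0).index := by
      rw [index_stabilizer, ← Set.ncard_Iio_nat n]
      refine Set.ncard_le_ncard (fun i hi => ?_) (Set.finite_range _)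
      obtain ⟨g, hg⟩ := ht i hi
      exact ⟨⟨φ g, g, rfl⟩, hg⟩
    rw [← Nat.card_congr (MonoidHom.ofInjective hinj).toEquiv, hG] at e1
    have e3 : Nat.card H = Nat.card (stabilizer φ.range 0) := by
      rw [← card_map_of_injective φ.range.subtype_injective]
      congr 2
      ext g
      exact ⟨fun h => ⟨⟨g, h.1⟩, h.2, rfl⟩, by rintro ⟨x, hx, rfl⟩; exact ⟨x.2, hx⟩⟩
    rw [e3]
    exact Nat.le_of_mul_le_mul_left (e1 ▸ Nat.mul_le_mul_right _ e2) hn
  rw [← card_map_of_injective hinj, ← a4, mul_assoc]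
  refine Nat.mul_le_mul a5 (le_trans ?_ a6)
  rw [← a2, a3, mul_comm]
  exact Nat.mul_le_mul_right _ a1

theorem two_mul_card_le [Finite G] {A B : Subgroup G} (h : A ≤ B) {x : G} (h1 : x ∈ B) (h2 : x ∉ A) :
    2 * Nat.card A ≤ Nat.card B := by
  obtain ⟨k, hk⟩ := card_dvd_of_le h
  have : k ≠ 1 := fun e => h2 (eq_of_le_of_card_ge h (by simp [hk, e]) ▸ h1)
  have : k ≠ 0 := fun e => Nat.card_pos.ne' (hk.trans (by simp [e]))
  rw [hk, mul_comm]
  exact Nat.mul_le_mul_left _ (by omega)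

theorem eq_of_card_lt [Finite G] {A B : Subgroup G} (h : A ≤ B) (hc : Nat.card B < 2 * Nat.card A) :
    A = B := le_antisymm h fun _ hx => by_contra fun h2 => absurd (two_mul_card_le h hx h2) (by omega)

theorem card_step [Finite G] {s : ℕ → G} {j : ℕ} (h1 : ∀ h ∈ gen s j, s j * h * (s j)⁻¹ ∈ gen s j)
    (h2 : s j * s j ∈ gen s j) : Nat.card (gen s (j + 1)) ≤ 2 * Nat.card (gen s j) := by
  have h3 : ∀ h ∈ gen s j, (s j)⁻¹ * h * s j ∈ gen s j := fun h hh => by
    have := h1 _ (mul_mem (mul_mem (inv_mem h2) hh) h2)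
    rwa [show s j * ((s j * s j)⁻¹ * h * (s j * s j)) * (s j)⁻¹ = (s j)⁻¹ * h * s j by group] at this
  have k : ∀ x ∈ gen s (j + 1), x ∈ (gen s j : Set G) ∪ (s j * ·) '' gen s j := fun x hx => by
    refine genW_induction (p := fun x => x ∈ (gen s j : Set G) ∪ (s j * ·) '' gen s j)
      (Or.inl (one_mem _)) (fun w hw g hg => ?_) (fun w hw g hg => ?_) hx <;>
      obtain ⟨y, hy, rfl⟩ := mem_letters.mp hw <;> rw [ev_single] <;>
      rcases Nat.lt_succ_iff_lt_or_eq.mp hy with hy | rfl <;> rcases hg with hg | ⟨g, hg, rfl⟩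
    · exact Or.inl (mul_mem (letter_mem_gen hy) hg)
    · exact Or.inr ⟨_, mul_mem (h3 _ (letter_mem_gen hy)) hg, by group⟩
    · exact Or.inr ⟨_, hg, rfl⟩
    · exact Or.inl (mul_assoc (s y) _ _ ▸ mul_mem h2 hg)
    · exact Or.inl (mul_mem (inv_mem (letter_mem_gen hy)) hg)
    · exact Or.inr ⟨_, mul_mem (h3 _ (inv_mem (letter_mem_gen hy))) hg, by group⟩
    · exact Or.inr ⟨_, mul_mem (inv_mem h2) hg, by group⟩
    · exact Or.inl (by simpa using hg)
  have := (Set.ncard_le_ncard k).trans (Set.ncard_union_le _ _)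
  rw [Set.ncard_image_of_injective _ (mul_right_injective _)] at this
  exact this.trans (two_mul _).ge

/-- the elements that commute with `y` up to `z` -/
def nearC (z y : G) (hz : z * z = 1) : Subgroup G where
  carrier := {x | Commute z x ∧ (x * y = y * x ∨ x * y = y * x * z)}
  one_mem' := ⟨Commute.one_right z, by simp⟩
  mul_mem' := by
    rintro a b ⟨h1, h2⟩ ⟨h3, h4⟩
    refine ⟨h1.mul_right h3, ?_⟩
    rcases h2 with h2 | h2 <;> rcases h4 with h4 | h4 <;> rw [mul_assoc a b y, h4]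
    · left; rw [← mul_assoc, h2, mul_assoc]
    · right; rw [← mul_assoc, ← mul_assoc, h2, mul_assoc y]
    · right; rw [← mul_assoc, h2, mul_assoc, h3.eq]; group
    · left; rw [← mul_assoc, ← mul_assoc, h2, mul_assoc _ z, h3.eq, mul_assoc, mul_assoc, mul_assoc, hz]
      group
  inv_mem' := by
    rintro a ⟨h1, h2 | h2⟩ <;> refine ⟨h1.inv_right, ?_⟩
    · left; rw [inv_mul_eq_iff_eq_mul, ← mul_assoc, h2, mul_inv_cancel_right]
    · right
      rw [inv_mul_eq_iff_eq_mul, ← mul_assoc, ← mul_assoc, h2, mul_assoc _ z, h1.inv_right.eq, mul_assoc,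
        mul_assoc, mul_assoc, hz]
      group

theorem es_gen [Finite G] {s : ℕ → G} {w : ℕ} (hw : 0 < w) (h0 : s 0 ≠ 1) (hz : s 0 * s 0 = 1)
    (hsq : ∀ i ≤ 2 * w, s i * s i = 1 ∨ s i * s i = s 0)
    (hc : ∀ i ≤ 2 * w, ∀ j < i, s i * s j = s j * s i * if i = j + 1 ∧ j % 2 = 1 then s 0 else 1) :
    ES (gen s (2 * w + 1)) (s 0) ∧ Nat.card (gen s (2 * w + 1)) = 2 ^ (2 * w + 1) := by
  have z0 : s 0 ∈ gen s (2 * w + 1) := letter_mem_gen (by omega)
  have c0 : ∀ i ≤ 2 * w, Commute (s 0) (s i) := fun i hi => by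
    rcases Nat.eq_zero_or_pos i with rfl | h
    · exact Commute.refl _
    · show _ = _
      simpa using (hc i hi 0 h).symm
  have sy : ∀ x y : G, Commute (s 0) y → x ∈ nearC (s 0) y hz → y ∈ nearC (s 0) x hz := by
    rintro x y hy ⟨-, h | h⟩
    · exact ⟨hy, Or.inl h.symm⟩
    · exact ⟨hy, Or.inr (by rw [h, mul_assoc, hz, mul_one])⟩
  have c1 : ∀ i ≤ 2 * w, ∀ j < i, s i ∈ nearC (s 0) (s j) hz := fun i hi j hj =>
    ⟨c0 i hi, by rw [hc i hi j hj]; split_ifs <;> simp⟩
  have c2 : ∀ j ≤ 2 * w, gen s (2 * w + 1) ≤ nearC (s 0) (s j) hz := fun j hj =>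
    gen_le.mpr fun i hi => by
      rcases lt_trichotomy j i with h | rfl | h
      · exact c1 i (by omega) j h
      · exact ⟨c0 j hj, Or.inl rfl⟩
      · exact sy _ _ (c0 i (by omega)) (c1 j hj i h)
  have c3 : ∀ y ∈ gen s (2 * w + 1), ∀ x ∈ gen s (2 * w + 1), x ∈ nearC (s 0) y hz := fun y hy =>
    gen_le.mpr fun i hi => sy _ _ (c0 i (by omega)) (c2 i (by omega) hy)
  have up : ∀ j ≤ 2 * w + 1, Nat.card (gen s j) ≤ 2 ^ j := fun j => by
    induction j with
    | zero => intro _; rw [show gen s 0 = ⊥ from eq_bot_iff.mpr (gen_le.mpr (by simp))]; simp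
    | succ j ih =>
      intro hj
      refine (card_step ?_ ?_).trans (by rw [pow_succ']; exact Nat.mul_le_mul_left _ (ih (by omega)))
      · intro h hh
        rcases Nat.eq_zero_or_pos j with rfl | h1
        · rw [(c3 _ z0 h (gen_le.mpr (fun x hx => letter_mem_gen (by omega)) hh)).1.eq]
          simpa using hh
        · rcases (c2 j (by omega) (gen_le.mpr (fun x hx => letter_mem_gen (by omega)) hh)).2 with e | e
          · rw [← e]; simpa using hh
          · rw [show s j * h = h * s j * s 0 by rw [e, mul_assoc, hz, mul_one], mul_assoc h,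
              ← (c0 j (by omega)).eq]
            simpa [mul_assoc] using mul_mem hh (letter_mem_gen h1)
      · rcases Nat.eq_zero_or_pos j with rfl | h1
        · rw [hz]; exact one_mem _
        · rcases hsq j (by omega) with e | e <;> rw [e]
          exacts [one_mem _, letter_mem_gen h1]
  let C : ℕ → Subgroup G := fun j => gen s (2 * w + 1) ⊓ centralizer (s '' Set.Iic j)
  have ne : ∀ j, j % 2 = 1 → j + 1 ≤ 2 * w → s (j + 1) * s j ≠ s j * s (j + 1) := fun j h1 h2 e => by
    have := hc _ h2 j (by omega)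
    rw [if_pos ⟨rfl, h1⟩, e] at this
    exact h0 (left_eq_mul.mp this)
  have cm : ∀ i ≤ 2 * w, ∀ j ≤ 2 * w, ¬ (i = j + 1 ∧ j % 2 = 1) → ¬ (j = i + 1 ∧ i % 2 = 1) →
      s i * s j = s j * s i := fun i hi j hj h1 h2 => by
    rcases lt_trichotomy j i with h | rfl | h
    · simpa [if_neg h1] using hc i hi j h
    · rfl
    · simpa [if_neg h2] using (hc j hj i h).symm
  have dn : ∀ j ≤ 2 * w, 2 ^ j * Nat.card (C j) ≤ Nat.card (gen s (2 * w + 1)) := fun j => by
    induction j with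
    | zero => intro _; rw [pow_zero, one_mul]; exact card_le_of_le (inf_le_left : C 0 ≤ _)
    | succ j ih =>
      intro hj
      refine le_trans ?_ (ih (by omega))
      rw [pow_succ, mul_assoc]
      refine Nat.mul_le_mul_left _ (two_mul_card_le (x := s (if j % 2 = 0 then j + 2 else j))
        (inf_le_inf_left _ (centralizer_le (Set.image_mono (Set.Iic_subset_Iic.mpr j.le_succ))))
        ⟨letter_mem_gen (by split_ifs <;> omega), ?_⟩ fun h => ?_)
      · rintro _ ⟨i, hi, rfl⟩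
        have : i ≤ j := hi
        exact cm i (by omega) _ (by split_ifs <;> omega) (by split_ifs <;> omega) (by split_ifs <;> omega)
      · have := h.2 _ ⟨j + 1, Set.self_mem_Iic, rfl⟩
        split_ifs at this
        · exact ne (j + 1) (by omega) (by omega) this.symm
        · exact ne j (by omega) hj this
  have o2 : Nat.card (zpowers (s 0)) = 2 := by rw [Nat.card_zpowers, Inv.two_of_mul_self h0 hz]
  have zl : zpowers (s 0) ≤ C (2 * w) := zpowers_le.mpr ⟨z0, by
    rintro _ ⟨i, hi, rfl⟩; exact (c0 i hi).eq.symm⟩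
  have l1 := card_le_of_le zl
  have l2 := dn _ le_rfl
  have l3 := up _ le_rfl
  have l4 : zpowers (s 0) = C (2 * w) := eq_of_le_of_card_ge zl (by
    rw [o2]; exact Nat.le_of_mul_le_mul_left ((l2.trans l3).trans_eq (pow_succ _ _)) (by positivity))
  refine ⟨⟨z0, h0, hz, fun x hx => (c3 _ z0 x hx).1, fun x hx y hy => ?_, fun x hx => ?_,
    fun x hx h => ?_, s 2, letter_mem_gen (by omega), s 1, letter_mem_gen (by omega),
    ne 1 rfl (by omega)⟩, le_antisymm l3 ?_⟩
  · rcases (c3 y hy x hx).2 with e | e <;> rw [e]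
    · simp
    · right; rw [mul_assoc, mul_assoc, (c3 y hy x hx).1.inv_right.eq]; simp
  · refine (genW_induction (p := fun x => x ∈ gen s (2 * w + 1) ∧ (x * x = 1 ∨ x * x = s 0))
      ⟨one_mem _, by simp⟩ (fun v hv g hg => ?_) (fun v hv g hg => ?_) hx).2
    all_goals
      obtain ⟨y, hy, rfl⟩ := mem_letters.mp hv
      rw [ev_single]
      have k : ∀ a ∈ gen s (2 * w + 1), a * a = 1 ∨ a * a = s 0 →
          a * g ∈ gen s (2 * w + 1) ∧ (a * g * (a * g) = 1 ∨ a * g * (a * g) = s 0) := fun a ha h => by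
        refine ⟨mul_mem ha hg.1, ?_⟩
        have e0 := (c3 a ha g hg.1).1.eq
        rcases (c3 a ha g hg.1).2 with e | e
        · rw [show a * g * (a * g) = a * a * (g * g) by rw [mul_assoc, ← mul_assoc g, e]; group]
          rcases h with h | h <;> rcases hg.2 with h' | h' <;> simp [h, h', hz]
        · rw [show a * g * (a * g) = a * a * (g * g) * s 0 by
            rw [mul_assoc, ← mul_assoc g, e, mul_assoc _ (s 0), e0]; group]
          rcases h with h | h <;> rcases hg.2 with h' | h' <;> simp [h, h', hz]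
    · exact k _ (letter_mem_gen hy) (hsq y (by omega))
    · refine k _ (inv_mem (letter_mem_gen hy)) ?_
      rw [← mul_inv_rev]
      rcases hsq y (by omega) with e | e <;> simp [e, inv_eq_of_mul_eq_one_right hz]
  · exact (mem_zpowers_two hz).mp (l4 ▸ ⟨hx, by
      rintro _ ⟨i, hi, rfl⟩; exact (h _ (letter_mem_gen (Nat.lt_succ_of_le hi))).eq.symm⟩)
  · rw [← l4, o2] at l2
    exact (pow_succ _ _).trans_le l2

theorem quot_gen [Finite G] {s : ℕ → G} {a L : ℕ} {U : Type} [Group U] [IsSimpleGroup U] {u : ℕ → U}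
    {RU : List (List ℕ)} (hp : IsPres u L RU) (hR : ∀ w ∈ RU, ∀ x ∈ w, x < L) {C : Subgroup G}
    (hC : ∀ x < a + L, s x ∈ C) (hn : ∀ x < L, ∀ j < a, s (a + x) * s j * (s (a + x))⁻¹ ∈ gen s a)
    (hr : ∀ r ∈ RU, ev s (r.map (a + ·)) ∈ gen s a) {v : List ℕ} (hv : ∀ x ∈ v, x < L)
    (hne : ev s (v.map (a + ·)) ∉ gen s a) (hc : Nat.card C < 2 * (Nat.card (gen s a) * Nat.card U)) :
    C = gen s (a + L) ∧ ∃ (_ : ((gen s a).subgroupOf C).Normal) (e : U ≃* C ⧸ (gen s a).subgroupOf C),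
      ∀ x < L, ∃ h, e (u x) = QuotientGroup.mk ⟨s (a + x), h⟩ := by
  classical
  have hl : gen s a ≤ gen s (a + L) := gen_le.mpr fun x hx => letter_mem_gen (by omega)
  have hN : ((gen s a).subgroupOf (gen s (a + L))).Normal :=
    normal_subgroupOf_of_le_normalizer (gen_le.mpr fun x hx => by
      rcases Nat.lt_or_ge x a with h | h
      · exact le_normalizer (letter_mem_gen h)
      · obtain ⟨x, rfl⟩ := Nat.exists_eq_add_of_le h
        exact mem_normalizer_fintype fun g hg => (gen_le (K := (gen s a).comap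
          (MulAut.conj (s (a + x))).toMonoidHom)).mpr (hn x (by omega)) hg)
  let s' : ℕ → gen s (a + L) := fun x => if h : x < a + L then ⟨s x, letter_mem_gen h⟩ else 1
  let π := QuotientGroup.mk' ((gen s a).subgroupOf (gen s (a + L)))
  have k : ∀ w : List ℕ, (∀ x ∈ w, x < L) →
      (ev (fun x => π (s' (a + x))) w = 1 ↔ ev s (w.map (a + ·)) ∈ gen s a) := fun w hw => by
    rw [← map_ev, QuotientGroup.mk'_apply, QuotientGroup.eq_one_iff, mem_subgroupOf, ev_map,
      show ((ev (fun x => s' (a + x)) w : gen s (a + L)) : G) = _ from map_ev _ (gen s (a + L)).subtype w,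
      ev_congr (t := fun x => s (a + x)) fun x hx => by simp [s', hw x hx]]
  obtain ⟨x, hx, h1⟩ : ∃ x < L, π (s' (a + x)) ≠ 1 := by
    by_contra! h
    exact hne ((k v hv).mp (mem_bot.mp (ev_mem fun x hx => h x (hv x hx))))
  obtain ⟨e, he⟩ := hp.equiv_of_simple hR (fun x => π (s' (a + x))) (fun r h => (k r (hR r h)).mpr (hr r h))
    hx h1
  have h2 : gen (fun x => π (s' (a + x))) L = ⊤ := eq_top_iff.mpr fun y _ => by
    obtain ⟨⟨g, hg⟩, rfl⟩ := QuotientGroup.mk'_surjective _ y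
    obtain ⟨g', h3, h4⟩ := (gen_le (K := ((gen (fun x => π (s' (a + x))) L).comap π).map
      (gen s (a + L)).subtype)).mpr (fun y hy => ⟨s' y, by
        rcases Nat.lt_or_ge y a with h | h
        · have : π (s' y) = 1 := (QuotientGroup.eq_one_iff _).mpr (by
            simpa [s', hy, mem_subgroupOf] using letter_mem_gen h)
          refine mem_comap.mpr ?_
          rw [this]; exact one_mem _
        · obtain ⟨y, rfl⟩ := Nat.exists_eq_add_of_le h
          exact letter_mem_gen (s := fun x => π (s' (a + x))) (by omega), by simp [s', hy]⟩) hg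
    rwa [← show g' = ⟨g, hg⟩ from Subtype.ext h4]
  let e' := e.trans ((MulEquiv.subgroupCongr h2).trans topEquiv)
  have h5 : gen s (a + L) = C := eq_of_card_lt (gen_le.mpr hC) (by
    rwa [card_eq_card_quotient_mul_card_subgroup ((gen s a).subgroupOf (gen s (a + L))),
      ← Nat.card_congr e'.toEquiv, Nat.card_congr (subgroupOfEquivOfLe hl).toEquiv, mul_comm (Nat.card U)])
  subst h5
  refine ⟨rfl, hN, e', fun x hx => ⟨letter_mem_gen (by omega), (he x hx).trans ?_⟩⟩
  simp [s', hx, π]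

/-- the equations contain all that is needed -/
def cxB (w L : ℕ) (RU : List (List ℕ)) (v : List ℕ) (E : List (List ℕ × List ℕ)) : Bool :=
  E.contains ([0, 0], []) && v.all (· < L) &&
  ((List.range (2 * w + 1)).all fun i => (E.contains ([i, i], []) || E.contains ([i, i], [0])) &&
    (List.range i).all fun j =>
      E.contains ([i, j], [j, i] ++ if i = j + 1 ∧ j % 2 = 1 then [0] else [])) &&
  ((List.range L).all fun x => E.contains ([2 * w + 1 + x, 0], [0, 2 * w + 1 + x]) &&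
    (List.range (2 * w + 1)).all fun j => E.any fun e => e.1 == [2 * w + 1 + x, j] &&
      e.2 == e.2.dropLast ++ [2 * w + 1 + x] && e.2.dropLast.all (· < 2 * w + 1)) &&
  RU.all fun r => E.any fun e => e.1 == r.map (2 * w + 1 + ·) && e.2.all (· < 2 * w + 1)

theorem cx [Finite G] {s : ℕ → G} {E : List (List ℕ × List ℕ)} (hE : ∀ e ∈ E, ev s e.1 = ev s e.2)
    {w L : ℕ} {U : Type} [Group U] [IsSimpleGroup U] {u : ℕ → U} {RU : List (List ℕ)}
    (hp : IsPres u L RU) (hR : ∀ w ∈ RU, ∀ x ∈ w, x < L) {v : List ℕ} (h : cxB w L RU v E = true)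
    (hw : 0 < w) (h0 : s 0 ≠ 1) (h4 : ev s (v.map (2 * w + 1 + ·)) ^ 4 ≠ 1)
    (hc : Nat.card (centralizer ({s 0} : Set G)) < 2 * (2 ^ (2 * w + 1) * Nat.card U)) :
    ES (gen s (2 * w + 1)) (s 0) ∧ Nat.card (gen s (2 * w + 1)) = 2 ^ (2 * w + 1) ∧
      centralizer ({s 0} : Set G) = gen s (2 * w + 1 + L) ∧
      ∃ (_ : ((gen s (2 * w + 1)).subgroupOf (centralizer {s 0})).Normal)
        (e : U ≃* centralizer ({s 0} : Set G) ⧸ (gen s (2 * w + 1)).subgroupOf (centralizer {s 0})),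
        ∀ x < L, ∃ h, e (u x) = QuotientGroup.mk ⟨s (2 * w + 1 + x), h⟩ := by
  simp only [cxB, Bool.and_eq_true, List.all_eq_true, List.any_eq_true, List.contains_iff_mem,
    List.mem_range, Bool.or_eq_true, beq_iff_eq, decide_eq_true_eq] at h
  obtain ⟨⟨⟨⟨a1, a2⟩, a3⟩, a4⟩, a5⟩ := h
  obtain ⟨b1, b2⟩ := es_gen hw h0 (by simpa using hE _ a1)
    (fun i hi => (a3 i (by omega)).1.imp (fun h => by simpa using hE _ h) fun h => by simpa using hE _ h)
    fun i hi j hj => by
      have := hE _ ((a3 i (by omega)).2 j hj)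
      split_ifs at this ⊢ <;> simpa [mul_assoc] using this
  refine ⟨b1, b2, quot_gen hp hR (fun x hx => mem_centralizer_singleton_iff.mpr ?_)
    (fun x hx j hj => ?_) (fun r hr => ?_) a2 (fun h => h4 ?_) (b2 ▸ hc)⟩
  · rcases Nat.lt_or_ge x (2 * w + 1) with h | h
    · exact (b1.central _ (letter_mem_gen h)).eq.symm
    · obtain ⟨x, rfl⟩ := Nat.exists_eq_add_of_le h
      simpa using hE _ (a4 x (by omega)).1
  · obtain ⟨e, he, ⟨h1, h2⟩, h3⟩ := (a4 x hx).2 j hj
    have := hE e he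
    rw [h1, h2, ev_append, ev_single, ev_cons, ev_single] at this
    rw [this, mul_inv_cancel_right]
    exact ev_mem fun y hy => letter_mem_gen (h3 y hy)
  · obtain ⟨e, he, h1, h2⟩ := a5 r hr
    rw [← h1, hE e he]
    exact ev_mem fun y hy => letter_mem_gen (h2 y hy)
  · rw [show 4 = 2 * 2 from rfl, pow_mul, pow_two, pow_two]
    rcases b1.sq _ h with e | e <;> simp [e, b1.zsq]

theorem es_sub [Finite G] {Q C : Subgroup G} {z : G} (h : ES Q z) (hC : Q ≤ C) :
    IsExtraspecial 2 (Q.subgroupOf C) ∧ Nat.card (Q.subgroupOf C) = Nat.card Q := by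
  refine ⟨ES.isExtraspecial (z := ⟨z, hC h.mem⟩) ⟨h.mem, fun e => h.ne (congrArg Subtype.val e),
    Subtype.ext h.zsq, fun x hx => Subtype.ext (h.central _ hx),
    fun x hx y hy => (h.conj _ hx _ hy).imp Subtype.ext Subtype.ext,
    fun x hx => (h.sq _ hx).imp Subtype.ext Subtype.ext,
    fun x hx hy => (h.cent _ hx fun y h' => congrArg Subtype.val (hy ⟨y, hC h'⟩ h')).imp Subtype.ext
      Subtype.ext, ?_⟩, Nat.card_congr (subgroupOfEquivOfLe hC).toEquiv⟩
  obtain ⟨x, hx, y, hy, e⟩ := h.noncomm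
  exact ⟨⟨x, hC hx⟩, hx, ⟨y, hC hy⟩, hy, fun e' => e (congrArg Subtype.val e')⟩

theorem core_eq [Finite G] {Q : Subgroup G} [hn : Q.Normal] (hp : IsPGroup 2 Q) {U : Type*} [Group U]
    [IsSimpleGroup U] (e : U ≃* G ⧸ Q) (hU : 3 ∣ Nat.card U ∨ 5 ∣ Nat.card U) : pCore 2 G = Q := by
  refine le_antisymm ?_ (Cfsg.Agent.Core.le_pCore hn hp)
  have := e.isSimpleGroup_congr.mp inferInstance
  rcases (Normal.map inferInstance (QuotientGroup.mk' Q) (QuotientGroup.mk'_surjective _) :
    ((pCore 2 G).map (QuotientGroup.mk' Q)).Normal).eq_bot_or_eq_top with h | h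
  · rwa [Subgroup.map_eq_bot_iff, QuotientGroup.ker_mk'] at h
  · have h2 := (Cfsg.Agent.Core.pCore_isPGroup (G := G) 2).map (QuotientGroup.mk' Q)
    rw [h] at h2
    obtain ⟨k, hk⟩ := IsPGroup.iff_card.mp h2
    rw [card_top, ← Nat.card_congr e.toEquiv] at hk
    rw [hk] at hU
    rcases hU with h | h
    · exact absurd (Nat.prime_three.dvd_of_dvd_pow h) (by norm_num)
    · exact absurd (Nat.prime_five.dvd_of_dvd_pow h) (by norm_num)

end Cfsg.Agent.H3x
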