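import Mathlib
import Cfsg.Agent.H3x.Fl2

/-!
Counting lemmas for an involution `t` and the elements it inverts.
-/

set_option autoImplicit false

namespace Cfsg.Agent.H3x.Fl

open Subgroup
open scoped commutatorElement

variable {H : Type*} [Group H]

/-- odd-order elements inverted by `t` -/
def Jv (t : H) : Set H := {x | Odd (orderOf x) ∧ t * x * t = x⁻¹}

/-- `t` lies in no proper normal subgroup -/
def Gen (t : H) : Prop := ∀ X : Subgroup H, X.Normal → t ∈ X → X = ⊤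

theorem one_mem_Jv {t : H} (ht : t * t = 1) : (1 : H) ∈ Jv t := ⟨by simp, by simpa using ht⟩

theorem Gen.quot {t : H} (h : Gen t) (N : Subgroup H) [N.Normal] : Gen (t : H ⧸ N) := by
  intro X hX ht
  have := h (X.comap (QuotientGroup.mk' N)) (hX.comap _) ht
  rw [eq_top_iff]
  intro y _
  obtain ⟨x, rfl⟩ := QuotientGroup.mk'_surjective N y
  have hx : x ∈ X.comap (QuotientGroup.mk' N) := this ▸ mem_top x
  exact hx

theorem odd_of_pow {x : H} {n : ℕ} (hn : Odd n) (h : x ^ n = 1) : Odd (orderOf x) :=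
  hn.of_dvd_nat (orderOf_dvd_of_pow_eq_one h)

theorem inv_pow' {t x : H} (ht : t * t = 1) (h : t * x * t = x⁻¹) (k : ℕ) :
    t * x ^ k * t = (x ^ k)⁻¹ := by
  have hti : t⁻¹ = t := inv_eq_of_mul_eq_one_right ht
  have : t * x * t⁻¹ = x⁻¹ := by rwa [hti]
  calc t * x ^ k * t = t * x ^ k * t⁻¹ := by rw [hti]
    _ = (x ^ k)⁻¹ := by rw [← conj_pow, this, inv_pow]

theorem comm_inv {t : H} (ht : t * t = 1) (y : H) :
    t * (y * t * y⁻¹ * t) * t = (y * t * y⁻¹ * t)⁻¹ := by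
  have hti : t⁻¹ = t := inv_eq_of_mul_eq_one_right ht
  simp only [mul_inv_rev, inv_inv, hti, mul_assoc, ht, mul_one]

theorem Jv_quot [Finite H] {t : H} (ht : t * t = 1) (N : Subgroup H) [N.Normal] :
    Jv (t : H ⧸ N) ⊆ QuotientGroup.mk '' Jv t := by
  rintro x ⟨⟨n, hn⟩, hx⟩
  have ht' : (t : H ⧸ N) * t = 1 := by rw [← QuotientGroup.mk_mul, ht, QuotientGroup.mk_one]
  obtain ⟨y, hy⟩ := QuotientGroup.mk_surjective (x ^ (n + 1))
  have h1 : ((y * t * y⁻¹ * t : H) : H ⧸ N) = x := by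
    simp only [QuotientGroup.mk_mul, QuotientGroup.mk_inv, hy]
    have h2 := inv_pow' ht' hx (n + 1)
    have h3 : (t : H ⧸ N) * (x ^ (n + 1))⁻¹ * t = x ^ (n + 1) := by
      rw [← h2]; simp only [← mul_assoc, ht', one_mul]; rw [mul_assoc, ht', mul_one]
    rw [mul_assoc, mul_assoc, ← mul_assoc (t : H ⧸ N), h3, ← pow_add,
      show n + 1 + (n + 1) = (2 * n + 1) + 1 by ring, pow_succ, ← hn, pow_orderOf_eq_one, one_mul]
  set z := y * t * y⁻¹ * t with hz
  obtain ⟨a, b, hb, hab⟩ := Nat.exists_eq_two_pow_mul_odd (orderOf_pos z).ne'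
  have hco : (2 ^ a).Coprime (orderOf x) :=
    Nat.Coprime.pow_left _ (Nat.coprime_two_left.2 ⟨n, hn⟩)
  obtain ⟨k, k1, k2⟩ := Nat.chineseRemainder hco 0 1
  refine ⟨z ^ k, ⟨odd_of_pow hb ?_, inv_pow' ht (comm_inv ht y) k⟩, ?_⟩
  · obtain ⟨c, hc⟩ := (Nat.modEq_zero_iff_dvd).1 k1
    rw [← pow_mul, hc, show 2 ^ a * c * b = 2 ^ a * b * c by ring, ← hab, pow_mul,
      pow_orderOf_eq_one, one_pow]
  · rw [QuotientGroup.mk_pow, h1, pow_eq_pow_iff_modEq.2 k2, pow_one]

theorem central [Finite H] {t v : H} (ht : t * t = 1) (hG : Gen t) (h1 : t * v = v * t)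
    (h2 : ∀ j ∈ Jv t, j * v = v * j) : v ∈ center H := by
  have := gen_odd ht hG (centralizer {v}) (mem_centralizer_singleton_iff.2 h1)
    (fun x a b => mem_centralizer_singleton_iff.2 (h2 x ⟨a, b⟩))
  rw [mem_center_iff]
  intro g
  exact mem_centralizer_singleton_iff.1 (this ▸ mem_top g)

theorem conj_mem_Jv {t c j : H} (hc : c * t = t * c) (hj : j ∈ Jv t) : c * j * c⁻¹ ∈ Jv t := by
  refine ⟨?_, ?_⟩
  · have : c * j * c⁻¹ = MulAut.conj c j := rfl
    rw [this, MulEquiv.orderOf_eq]; exact hj.1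
  · have h2 : c⁻¹ * t = t * c⁻¹ := by
      rw [inv_mul_eq_iff_eq_mul, ← mul_assoc, hc, mul_inv_cancel_right]
    calc t * (c * j * c⁻¹) * t = (t * c) * j * (c⁻¹ * t) := by group
      _ = c * (t * j * t) * c⁻¹ := by rw [← hc, h2]; group
      _ = (c * j * c⁻¹)⁻¹ := by rw [hj.2]; group

theorem card_cent [Finite H] {t : H} (ht : t * t = 1) (hG : Gen t) (hZ : center H = ⊥) :
    Nat.card (centralizer ({t} : Set H)) ≤ (Jv t).ncard ^ (Jv t).ncard := by
  let f : centralizer ({t} : Set H) → (Jv t → Jv t) := fun c j =>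
    ⟨c.1 * j.1 * c.1⁻¹, conj_mem_Jv (mem_centralizer_singleton_iff.1 c.2) j.2⟩
  have hf : Function.Injective f := by
    intro a b hab
    have h1 : b.1⁻¹ * a.1 ∈ center H := by
      refine central ht hG (mem_centralizer_singleton_iff.1 (b⁻¹ * a).2).symm fun j hj => ?_
      have : a.1 * j * a.1⁻¹ = b.1 * j * b.1⁻¹ := congrArg Subtype.val (congrFun hab ⟨j, hj⟩)
      calc j * (b.1⁻¹ * a.1) = b.1⁻¹ * (b.1 * j * b.1⁻¹) * a.1 := by group
        _ = b.1⁻¹ * a.1 * j := by rw [← this]; group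
    rw [hZ, mem_bot, inv_mul_eq_one] at h1
    exact Subtype.ext h1.symm
  have := Nat.card_le_card_of_injective f hf
  rwa [Nat.card_fun, Nat.card_coe_set_eq] at this

theorem fib {α β : Type*} [Finite α] [Finite β] (f : α → β) (s : Set α) (u : Set β)
    (h1 : ∀ a ∈ s, f a ∈ u) (n : ℕ) (h2 : ∀ b ∈ u, {a | a ∈ s ∧ f a = b}.ncard ≤ n) :
    s.ncard ≤ n * u.ncard := by
  classical
  rw [Set.ncard_eq_toFinset_card s, Set.ncard_eq_toFinset_card u]
  refine Finset.card_le_mul_card_image_of_maps_to (f := f) (by simpa using h1) n fun b hb => ?_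
  refine le_trans (le_of_eq ?_) (h2 b (by simpa using hb))
  rw [← Set.ncard_coe_finset]
  congr 1
  ext a; simp

theorem coset [Finite H] (S : Set H) (K : Subgroup H) (h : ∀ a ∈ S, ∀ b ∈ S, a⁻¹ * b ∈ K) :
    S.ncard ≤ Nat.card K := by
  rcases S.eq_empty_or_nonempty with rfl | ⟨a, ha⟩
  · simp
  · have := Set.ncard_le_ncard_of_injOn (s := S) (t := (K : Set H)) (fun b => a⁻¹ * b)
      (fun b hb => h a ha b hb) (fun b _ c _ e => mul_left_cancel e)
    exact this

theorem conj_eq_cent {a b t : H} (h : a * t * a⁻¹ = b * t * b⁻¹) :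
    a⁻¹ * b ∈ centralizer ({t} : Set H) := by
  rw [mem_centralizer_singleton_iff]
  calc a⁻¹ * b * t = a⁻¹ * (b * t * b⁻¹) * b := by group
    _ = t * (a⁻¹ * b) := by rw [← h]; group

theorem card_le_inv [Finite H] {t : H} (ht : t * t = 1) (N : Subgroup H) [hN : N.Normal] :
    Nat.card N ≤ Nat.card (centralizer ({t} : Set H)) * {x | x ∈ N ∧ t * x * t = x⁻¹}.ncard := by
  have hti : t⁻¹ = t := inv_eq_of_mul_eq_one_right ht
  refine fib (fun n => n * t * n⁻¹ * t) (N : Set H) {x | x ∈ N ∧ t * x * t = x⁻¹}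
    (fun a ha => ⟨?_, comm_inv ht a⟩) _
    fun b _ => coset _ _ fun x hx y hy => conj_eq_cent (mul_right_cancel (hx.2.trans hy.2.symm))
  have := N.mul_mem ha (hN.conj_mem _ (N.inv_mem ha) t)
  rwa [hti, ← mul_assoc, ← mul_assoc] at this

theorem card_conj_inv [Finite H] (t y : H) :
    {h : H | (h * t * h⁻¹) * y * (h * t * h⁻¹)⁻¹ = y⁻¹}.ncard ≤
      Nat.card (centralizer ({t} : Set H)) * Nat.card (centralizer ({y} : Set H)) := by
  refine (fib (fun h => h * t * h⁻¹) _ {s : H | s * y * s⁻¹ = y⁻¹} (fun a ha => ha) _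
    fun b _ => coset _ _ fun x hx z hz => conj_eq_cent (hx.2.trans hz.2.symm)).trans ?_
  exact Nat.mul_le_mul_left _ (coset _ _ fun a ha b hb => conj_eq_cent (ha.trans hb.symm))

/-- Brauer–Fowler counting inside a normal subgroup -/
theorem bf [Finite H] {t : H} (ht : t * t = 1) (N : Subgroup H) [hN : N.Normal] {c : ℕ}
    (hc : Nat.card (centralizer ({t} : Set H)) ≤ c) :
    Nat.card N ≤ 2 * c ∨ ∃ x ∈ N, x ≠ 1 ∧ (centralizer ({x} : Set H)).index ≤ 2 * c ^ 2 := by
  have hti : t⁻¹ = t := inv_eq_of_mul_eq_one_right ht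
  by_contra hno
  push Not at hno
  obtain ⟨h1, h2⟩ := hno
  set I := {x | x ∈ N ∧ t * x * t = x⁻¹} with hI
  have a1 : Nat.card N ≤ c * I.ncard := (card_le_inv ht N).trans (Nat.mul_le_mul_right _ hc)
  have a2 : I.ncard ≤ (I \ {1}).ncard + 1 := by
    rw [Set.ncard_sdiff_singleton_add_one (show (1 : H) ∈ I from ⟨N.one_mem, by simpa using ht⟩)]
  have hc0 : 0 < c := lt_of_lt_of_le Nat.card_pos hc
  set M := Nat.card H / (2 * c ^ 2) with hM
  have a3 : ((Set.univ : Set H) ×ˢ (I \ {1})).ncard ≤ (c * M) * ((N : Set H) \ {1}).ncard := by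
    refine fib (fun p : H × H => p.1 * p.2 * p.1⁻¹) _ _ ?_ _ ?_
    · rintro ⟨h, x⟩ ⟨-, hx, hx1⟩
      refine ⟨hN.conj_mem _ hx.1 h, fun e => hx1 ?_⟩
      simpa using e
    · rintro y ⟨hy, hy1⟩
      refine le_trans (Set.ncard_le_ncard_of_injOn Prod.fst
        (t := {h : H | (h * t * h⁻¹) * y * (h * t * h⁻¹)⁻¹ = y⁻¹}) ?_ ?_)
        ((card_conj_inv t y).trans (Nat.mul_le_mul hc ?_))
      · rintro ⟨h, x⟩ ⟨⟨-, hx, -⟩, e⟩
        simp only at e
        show (h * t * h⁻¹) * y * (h * t * h⁻¹)⁻¹ = y⁻¹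
        rw [← e]
        calc (h * t * h⁻¹) * (h * x * h⁻¹) * (h * t * h⁻¹)⁻¹ = h * (t * x * t⁻¹) * h⁻¹ := by group
          _ = (h * x * h⁻¹)⁻¹ := by rw [hti, hx.2]; group
      · rintro ⟨h, x⟩ ⟨-, e⟩ ⟨h', x'⟩ ⟨-, e'⟩ e''
        simp only at e e' e''
        subst e''
        have := e.trans e'.symm
        rw [mul_right_cancel_iff, mul_left_cancel_iff] at this
        rw [this]
      · rw [hM, Nat.le_div_iff_mul_le (by positivity), ← (centralizer ({y} : Set H)).card_mul_index]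
        exact Nat.mul_le_mul_left _ (h2 y hy hy1).le
  rw [Set.ncard_prod, Set.ncard_univ] at a3
  have a4 : ((N : Set H) \ {1}).ncard ≤ Nat.card N := Set.ncard_le_ncard Set.diff_subset
  have a5 : M * (2 * c ^ 2) ≤ Nat.card H := Nat.div_mul_le_self _ _
  have hH : 0 < Nat.card H := Nat.card_pos
  set i := (I \ {1}).ncard
  set n := Nat.card N
  set g := Nat.card H
  have b1 : g * (2 * c ^ 2 * i) ≤ g * (c * n) := by
    calc g * (2 * c ^ 2 * i) = (2 * c ^ 2) * (g * i) := by ring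
      _ ≤ (2 * c ^ 2) * (c * M * n) :=
        Nat.mul_le_mul_left _ (a3.trans (Nat.mul_le_mul_left _ a4))
      _ = (M * (2 * c ^ 2)) * (c * n) := by ring
      _ ≤ g * (c * n) := Nat.mul_le_mul_right _ a5
  have b2 := Nat.le_of_mul_le_mul_left b1 hH
  have b3 : n ≤ c * (i + 1) := a1.trans (Nat.mul_le_mul_left _ a2)
  have b4 : c ^ 2 * (2 * i) ≤ c ^ 2 * (i + 1) := by
    calc c ^ 2 * (2 * i) = 2 * c ^ 2 * i := by ring
      _ ≤ c * n := b2
      _ ≤ c * (c * (i + 1)) := Nat.mul_le_mul_left _ b3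
      _ = c ^ 2 * (i + 1) := by ring
  have b5 := Nat.le_of_mul_le_mul_left b4 (by positivity)
  have b6 : i + 1 ≤ 2 := by omega
  have := b3.trans (Nat.mul_le_mul_left _ b6)
  omega

theorem index_normalCore_le [Finite H] (K : Subgroup H) : K.normalCore.index ≤ K.index.factorial := by
  classical
  have := Fintype.ofFinite (H ⧸ K)
  rw [normalCore_eq_ker, index_ker]
  refine (card_le_card_group _).trans ?_
  rw [Nat.card_perm]; rfl

theorem schur [Finite H] {B : ℕ} (h : (center H).index ≤ B) :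
    Nat.card (_root_.commutator H) ≤ B ^ (B * (B * B) + 1) := by
  have h0 : 0 < (center H).index := Nat.pos_of_ne_zero FiniteIndex.index_ne_zero
  have h1 : Nat.card (commutatorSet H) ≤ B * B := by
    let f : (H ⧸ center H) × (H ⧸ center H) → commutatorSet H := fun p =>
      ⟨⁅p.1.out, p.2.out⁆, commutator_mem_commutatorSet _ _⟩
    have hf : Function.Surjective f := by
      rintro ⟨_, a, b, rfl⟩
      refine ⟨((a : H ⧸ center H), (b : H ⧸ center H)), Subtype.ext ?_⟩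
      obtain ⟨z, hz⟩ := QuotientGroup.mk_out_eq_mul (center H) a
      obtain ⟨w, hw⟩ := QuotientGroup.mk_out_eq_mul (center H) b
      show ⁅(a : H ⧸ center H).out, (b : H ⧸ center H).out⁆ = ⁅a, b⁆
      rw [hz, hw, commutatorElement_def, commutatorElement_def]
      have e1 := mem_center_iff.1 z.2
      have e2 := mem_center_iff.1 w.2
      calc a * z * (b * w) * (a * z)⁻¹ * (b * w)⁻¹
          = a * (z * (b * w) * (z : H)⁻¹) * a⁻¹ * (b * w)⁻¹ := by group
        _ = a * (b * w) * a⁻¹ * (b * w)⁻¹ := by rw [← e1, mul_inv_cancel_right]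
        _ = a * b * (w * a⁻¹ * (w : H)⁻¹) * b⁻¹ := by group
        _ = a * b * a⁻¹ * b⁻¹ := by rw [← e2, mul_inv_cancel_right]
    have := Nat.card_le_card_of_surjective f hf
    rw [Nat.card_prod] at this
    exact this.trans (Nat.mul_le_mul h h)
  refine (Nat.le_of_dvd (by positivity) (card_commutator_dvd_index_center_pow H)).trans ?_
  refine (Nat.pow_le_pow_left h _).trans (Nat.pow_le_pow_right (by omega) ?_)
  exact Nat.succ_le_succ (Nat.mul_le_mul h h1)

end Cfsg.Agent.H3x.Fl
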