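import Mathlib
import Cfsg.Agent.H3x.Fl3

/-!
The order of a group generated by the class of an involution `t` is bounded in terms of the number
of elements of odd order inverted by `t`.
-/

set_option autoImplicit false

namespace Cfsg.Agent.H3x.Fl

open Subgroup
open scoped commutatorElement

universe u

variable {H : Type*} [Group H]

theorem odd_or_inv [Finite H] (x : H) : Odd (orderOf x) ∨ ∃ k : ℕ, x ^ k ≠ 1 ∧ x ^ k * x ^ k = 1 := by
  rcases Nat.even_or_odd (orderOf x) with ⟨k, hk⟩ | h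
  · have h0 := orderOf_pos x
    refine Or.inr ⟨k, pow_ne_one_of_lt_orderOf (by omega) (by omega), ?_⟩
    rw [← pow_add, ← hk, pow_orderOf_eq_one]
  · exact Or.inl h

theorem comm_of_inv {t v : H} (ht : t * t = 1) (h : t * v * t = v⁻¹) (hv : v * v = 1) :
    t * v = v * t := by
  rw [inv_eq_of_mul_eq_one_right hv] at h
  calc t * v = t * v * (t * t) := by rw [ht, mul_one]
    _ = v * t := by rw [← mul_assoc, h]

theorem drop [Finite H] {t : H} (ht : t * t = 1) (hG : Gen t) (hZ : center H = ⊥)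
    (N : Subgroup H) [hN : N.Normal] (hne : N ≠ ⊥) :
    (Jv (t : H ⧸ N)).ncard < (Jv t).ncard := by
  have hti : t⁻¹ = t := inv_eq_of_mul_eq_one_right ht
  have key : ∃ a ∈ Jv t, ∃ b ∈ Jv t, a ≠ b ∧ (a : H ⧸ N) = b := by
    by_cases hv : ∃ v ∈ N, v ≠ 1 ∧ t * v = v * t
    · obtain ⟨v, h1, h2, h3⟩ := hv
      have : ∃ j ∈ Jv t, j * v ≠ v * j := by
        by_contra hc
        push Not at hc
        have := central ht hG h3 hc
        rw [hZ] at this
        exact h2 this
      obtain ⟨j, hj, h4⟩ := this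
      refine ⟨v * j * v⁻¹, conj_mem_Jv h3.symm hj, j, hj, fun e => h4 ?_, ?_⟩
      · rw [mul_inv_eq_iff_eq_mul] at e; exact e.symm
      · rw [QuotientGroup.mk_mul, QuotientGroup.mk_mul, QuotientGroup.mk_inv,
          (QuotientGroup.eq_one_iff v).2 h1]; simp
    · push Not at hv
      obtain ⟨⟨n, hn⟩, hn1⟩ := ne_bot_iff_exists_ne_one.1 hne
      have hn1' : n ≠ 1 := fun e => hn1 (Subtype.ext e)
      have hx : n * t * n⁻¹ * t ∈ N := by
        have := N.mul_mem hn (hN.conj_mem _ (N.inv_mem hn) t)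
        rwa [hti, ← mul_assoc, ← mul_assoc] at this
      refine ⟨n * t * n⁻¹ * t, ⟨?_, comm_inv ht n⟩, 1, one_mem_Jv ht, fun e => hv n hn hn1' ?_,
        (QuotientGroup.eq_one_iff _).2 hx⟩
      · rcases odd_or_inv (n * t * n⁻¹ * t) with h | ⟨k, k1, k2⟩
        · exact h
        · exact absurd (comm_of_inv ht (inv_pow' ht (comm_inv ht n) k) k2)
            (hv _ (N.pow_mem hx k) k1)
      · rw [mul_eq_one_iff_eq_inv, hti, mul_inv_eq_iff_eq_mul] at e
        exact e.symm
  obtain ⟨a, ha, b, hb, hab, e⟩ := key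
  refine lt_of_le_of_lt ?_ (Set.ncard_sdiff_singleton_lt_of_mem ha)
  refine le_trans (Set.ncard_le_ncard ?_) (Set.ncard_image_le (f := QuotientGroup.mk (s := N)))
  intro x hx
  obtain ⟨y, hy, rfl⟩ := Jv_quot ht N hx
  by_cases h : y = a
  · exact ⟨b, ⟨hb, hab.symm⟩, by rw [h, e]⟩
  · exact ⟨y, ⟨hy, h⟩, rfl⟩

theorem card_min [Finite H] {t : H} (ht : t * t = 1) (N : Subgroup H) [hN : N.Normal]
    (hmin : ∀ K : Subgroup H, K.Normal → K ≤ N → K ≠ ⊥ → K = N) {c m : ℕ}
    (hc : Nat.card (centralizer ({t} : Set H)) ≤ c) (hm : (Jv t).ncard ≤ m) :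
    Nat.card N ≤ 2 * c + (2 * c ^ 2).factorial + c * (c + m) := by
  rcases bf ht N hc with h | ⟨x, hx, hx1, h⟩
  · omega
  by_cases hK : (centralizer ({x} : Set H)).normalCore ⊓ N = ⊥
  · have h1 : Nat.card N ≤ (centralizer ({x} : Set H)).normalCore.index := by
      refine Nat.card_le_card_of_injective
        (fun n : N => ((n : H) : H ⧸ (centralizer ({x} : Set H)).normalCore)) fun a b e => ?_
      have : (a : H)⁻¹ * b ∈ (centralizer ({x} : Set H)).normalCore ⊓ N :=
        ⟨QuotientGroup.eq.1 e, (a⁻¹ * b).2⟩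
      rw [hK, mem_bot, inv_mul_eq_one] at this
      exact Subtype.ext this
    have := h1.trans ((index_normalCore_le _).trans (Nat.factorial_le h))
    omega
  have h1 := hmin _ inferInstance inf_le_right hK
  have h2 : x ∈ centralizer (N : Set H) := by
    intro n hn
    have : n ∈ (centralizer ({x} : Set H)).normalCore ⊓ N := h1.symm ▸ hn
    exact mem_centralizer_singleton_iff.1 (normalCore_le _ this.1)
  have h3 := hmin (centralizer (N : Set H) ⊓ N) inferInstance inf_le_right fun e => hx1 (by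
    have : x ∈ centralizer (N : Set H) ⊓ N := ⟨h2, hx⟩
    rwa [e] at this)
  have hab : ∀ a ∈ N, ∀ b ∈ N, a * b = b * a := fun a ha b hb => by
    have : b ∈ centralizer (N : Set H) ⊓ N := h3.symm ▸ hb
    exact this.1 a ha
  have h4 : {x | x ∈ N ∧ t * x * t = x⁻¹}.ncard ≤ c + m := by
    by_cases hv : ∃ v ∈ N, v ≠ 1 ∧ v * v = 1
    · obtain ⟨v, v1, v2, v3⟩ := hv
      let Om : Subgroup H :=
        { carrier := {n | n ∈ N ∧ n * n = 1}
          one_mem' := ⟨N.one_mem, mul_one 1⟩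
          mul_mem' := fun {a b} ha hb => ⟨N.mul_mem ha.1 hb.1, by
            rw [mul_assoc, ← mul_assoc b, hab b hb.1 a ha.1, mul_assoc, hb.2, mul_one, ha.2]⟩
          inv_mem' := fun {a} ha => ⟨N.inv_mem ha.1, by rw [← mul_inv_rev, ha.2, inv_one]⟩ }
      have hO := hmin Om ⟨fun n hn g => ⟨hN.conj_mem _ hn.1 g, by
        rw [conj_mul, hn.2]; simp⟩⟩ (fun n hn => hn.1) fun e => v2 (by
          have : v ∈ Om := ⟨v1, v3⟩
          rwa [e] at this)
      refine le_trans ?_ (hc.trans (Nat.le_add_right _ _))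
      refine Set.ncard_le_ncard (t := (centralizer ({t} : Set H) : Set H)) fun y hy => ?_
      have : y ∈ Om := hO.symm ▸ hy.1
      exact mem_centralizer_singleton_iff.2 (comm_of_inv ht hy.2 this.2).symm
    · push Not at hv
      refine le_trans ?_ (hm.trans (Nat.le_add_left _ _))
      refine Set.ncard_le_ncard fun y hy => ⟨?_, hy.2⟩
      rcases odd_or_inv y with h | ⟨k, k1, k2⟩
      · exact h
      · exact absurd k2 (hv _ (N.pow_mem hy.1 k) k1)
  have := (card_le_inv ht N).trans (Nat.mul_le_mul hc h4)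
  omega

theorem mul_mem_Jv {t a b : H} (ht : t * t = 1) (ha : a ∈ Jv t) (hb : b ∈ Jv t)
    (h : a * b = b * a) : a * b ∈ Jv t := by
  refine ⟨(ha.1.mul hb.1).of_dvd_nat (Commute.orderOf_mul_dvd_mul_orderOf h), ?_⟩
  calc t * (a * b) * t = (t * a * t) * (t * b * t) := by
        simp only [mul_assoc]; rw [← mul_assoc t t, ht, one_mul]
    _ = (a * b)⁻¹ := by rw [ha.2, hb.2, h, mul_inv_rev]

theorem inv_mem_Jv {t a : H} (ht : t * t = 1) (ha : a ∈ Jv t) : a⁻¹ ∈ Jv t := by
  refine ⟨by rw [orderOf_inv]; exact ha.1, ?_⟩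
  rw [inv_inv, ← ha.2]
  simp only [mul_assoc, ht, mul_one]
  rw [← mul_assoc, ht, one_mul]

theorem exists_K [Finite H] {t : H} (ht : t * t = 1) :
    ∃ K : Subgroup H, ∃ _ : K.Normal, (∀ k ∈ K, ∀ j ∈ Jv t, k * j = j * k) ∧
      center (H ⧸ K) = ⊥ := by
  have hti : t⁻¹ = t := inv_eq_of_mul_eq_one_right ht
  obtain ⟨K, ⟨hN, h1, h2⟩, hmax⟩ := WellFounded.has_min wellFounded_gt
    {K : Subgroup H | K.Normal ∧ (∀ k ∈ K, k ∈ Jv t → k = 1) ∧ ∀ k ∈ K, ∀ j ∈ Jv t, k * j = j * k}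
    ⟨⊥, inferInstance, fun k hk _ => hk, fun k hk j _ => by rw [mem_bot.1 hk]; simp⟩
  refine ⟨K, hN, h2, ?_⟩
  set K' := (center (H ⧸ K)).comap (QuotientGroup.mk' K) with hK'
  have hc : ∀ k ∈ K', ∀ g : H, k⁻¹ * (g * k * g⁻¹) ∈ K := by
    intro k hk g
    rw [← QuotientGroup.eq, QuotientGroup.mk_mul, QuotientGroup.mk_mul, QuotientGroup.mk_inv]
    have : (g : H ⧸ K) * k = k * g := mem_center_iff.1 hk g
    rw [this, mul_inv_cancel_right]
  have a1 : ∀ k ∈ K', k ∈ Jv t → k = 1 := by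
    intro k hk hj
    have h3 := hc k hk t
    rw [hti, hj.2] at h3
    have h4 := h1 _ h3 (mul_mem_Jv ht (inv_mem_Jv ht hj) (inv_mem_Jv ht hj) rfl)
    rw [← mul_inv_rev, inv_eq_one, ← sq] at h4
    have h5 := Nat.dvd_gcd (orderOf_dvd_of_pow_eq_one h4) (dvd_refl (orderOf k))
    rw [Nat.coprime_two_left.2 hj.1, Nat.dvd_one, orderOf_eq_one_iff] at h5
    exact h5
  have a2 : ∀ k ∈ K', ∀ j ∈ Jv t, k * j = j * k := by
    intro k hk j hj
    have hu := hc k hk t
    have hw := K.inv_mem (hc k⁻¹ (K'.inv_mem hk) j)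
    have b1 : k * j * k⁻¹ ∈ Jv t := by
      refine ⟨?_, ?_⟩
      · have : k * j * k⁻¹ = MulAut.conj k j := rfl
        rw [this, MulEquiv.orderOf_eq]; exact hj.1
      · have e := h2 _ hu _ (inv_mem_Jv ht hj)
        calc t * (k * j * k⁻¹) * t
            = k * ((k⁻¹ * (t * k * t⁻¹)) * (t * j * t⁻¹) * (k⁻¹ * (t * k * t⁻¹))⁻¹) * k⁻¹ * (t * t⁻¹⁻¹) := by
              group
          _ = (k * j * k⁻¹)⁻¹ := by
              rw [inv_inv, ht, mul_one, show t * j * t⁻¹ = j⁻¹ by rw [hti, hj.2], e,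
                mul_inv_cancel_right]; group
    have hw' : k * j * k⁻¹ * j⁻¹ ∈ K := by
      have := K.inv_mem hw
      simpa [mul_assoc] using this
    have e := h2 _ hw' j hj
    have b2 : k * j * k⁻¹ * j⁻¹ = j⁻¹ * (k * j * k⁻¹) := by
      rw [eq_inv_mul_iff_mul_eq, ← e, inv_mul_cancel_right]
    have := h1 _ hw' (mul_mem_Jv ht b1 (inv_mem_Jv ht hj) b2)
    rw [mul_inv_eq_one, mul_inv_eq_iff_eq_mul] at this
    exact this
  have hle : K ≤ K' := fun k hk => by
    show ((k : H) : H ⧸ K) ∈ center (H ⧸ K)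
    rw [(QuotientGroup.eq_one_iff k).2 hk]; exact one_mem _
  have : K' = K := by
    by_contra hne
    exact hmax K' ⟨inferInstance, a1, a2⟩ (lt_of_le_of_ne hle (Ne.symm hne))
  rw [eq_bot_iff]
  intro z hz
  obtain ⟨y, rfl⟩ := QuotientGroup.mk_surjective z
  have hy : y ∈ K' := hz
  rw [this] at hy
  exact (QuotientGroup.eq_one_iff y).2 hy

theorem card_le_of_comm [Finite H] {t : H} (ht : t * t = 1) (hG : Gen t)
    (h : ∀ a ∈ Jv t, ∀ b ∈ Jv t, a * b = b * a) : Nat.card H ≤ 2 * (Jv t).ncard := by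
  have hti : t⁻¹ = t := inv_eq_of_mul_eq_one_right ht
  have sw : ∀ a ∈ Jv t, t * a = a⁻¹ * t := fun a ha => by
    rw [← ha.2, mul_assoc, ht, mul_one]
  let L : Subgroup H :=
    { carrier := Jv t ∪ (fun a => a * t) '' Jv t
      one_mem' := Or.inl (one_mem_Jv ht)
      mul_mem' := by
        rintro _ _ (ha | ⟨a, ha, rfl⟩) (hb | ⟨b, hb, rfl⟩)
        · exact Or.inl (mul_mem_Jv ht ha hb (h _ ha _ hb))
        · exact Or.inr ⟨_, mul_mem_Jv ht ha hb (h _ ha _ hb), by simp only [mul_assoc]⟩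
        · refine Or.inr ⟨_, mul_mem_Jv ht ha (inv_mem_Jv ht hb) (h _ ha _ (inv_mem_Jv ht hb)), ?_⟩
          simp only [mul_assoc]; rw [sw _ hb]
        · refine Or.inl ?_
          have : a * t * (b * t) = a * b⁻¹ := by rw [← hb.2]; simp only [mul_assoc]
          simp only [this]
          exact mul_mem_Jv ht ha (inv_mem_Jv ht hb) (h _ ha _ (inv_mem_Jv ht hb))
      inv_mem' := by
        rintro _ (ha | ⟨a, ha, rfl⟩)
        · exact Or.inl (inv_mem_Jv ht ha)
        · refine Or.inr ⟨a, ha, ?_⟩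
          simp only [mul_inv_rev, hti]
          rw [sw _ (inv_mem_Jv ht ha), inv_inv] }
  have hL : L = ⊤ := gen_odd ht hG L (Or.inr ⟨1, one_mem_Jv ht, one_mul t⟩)
    fun x a b => Or.inl ⟨a, b⟩
  have : (Set.univ : Set H) = Jv t ∪ (fun a => a * t) '' Jv t := by
    rw [← coe_top, ← hL]; rfl
  rw [← Set.ncard_univ, this, two_mul]
  exact (Set.ncard_union_le _ _).trans (Nat.add_le_add_left Set.ncard_image_le _)

theorem card_le_of_K [Finite H] {t : H} (ht : t * t = 1) (hG : Gen t) (K : Subgroup H)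
    (hK : ∀ k ∈ K, ∀ j ∈ Jv t, k * j = j * k) {B : ℕ} (hB : K.index ≤ B) :
    Nat.card H ≤ 2 * (Jv t).ncard * B ^ (B * (B * B) + 1) := by
  have hti : t⁻¹ = t := inv_eq_of_mul_eq_one_right ht
  set G0 := closure (Jv t) with hG0
  have hN : G0.Normal := by
    rw [← normalizer_eq_top_iff]
    refine gen_odd ht hG _ ?_ fun x a b => le_normalizer (subset_closure ⟨a, b⟩)
    refine H2.mem_normalizer_of_conj_smul_le ?_
    rw [H2.conj_smul_eq_map, map_le_iff_le_comap, hG0, closure_le]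
    intro j hj
    show t * j * t⁻¹ ∈ G0
    rw [hti, hj.2]
    exact G0.inv_mem (subset_closure hj)
  have h1 : (center G0).index ≤ B := by
    have : K.subgroupOf G0 ≤ center G0 := by
      intro k hk
      rw [mem_center_iff]
      intro g
      have : G0 ≤ centralizer {(k : H)} := (closure_le _).2 fun j hj =>
        mem_centralizer_singleton_iff.2 (hK _ hk j hj).symm
      exact Subtype.ext (mem_centralizer_singleton_iff.1 (this g.2))
    refine (index_antitone this).trans (le_trans ?_ hB)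
    have e := relIndex_le_of_le_right (H := K) (K := G0) (L := ⊤) le_top
      (by rw [relIndex_top_right]; exact FiniteIndex.index_ne_zero)
    rwa [relIndex_top_right] at e
  have h2 := schur h1
  have h3 : Nat.card (⁅G0, G0⁆ : Subgroup H) = Nat.card (_root_.commutator G0) := by
    rw [← card_map_of_injective G0.subtype_injective, _root_.commutator_def, map_commutator,
      ← MonoidHom.range_eq_map, range_subtype]
  have ht' : (t : H ⧸ ⁅G0, G0⁆) * t = 1 := by
    rw [← QuotientGroup.mk_mul, ht, QuotientGroup.mk_one]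
  have h4 := card_le_of_comm ht' (hG.quot ⁅G0, G0⁆) (by
    intro a ha b hb
    obtain ⟨x, hx, rfl⟩ := Jv_quot ht _ ha
    obtain ⟨y, hy, rfl⟩ := Jv_quot ht _ hb
    rw [← QuotientGroup.mk_mul, ← QuotientGroup.mk_mul, QuotientGroup.eq]
    have := commutator_mem_commutator (G0.inv_mem (subset_closure hy)) (G0.inv_mem (subset_closure hx))
    rw [commutatorElement_def] at this
    simpa [mul_assoc] using this)
  have h5 : (Jv (t : H ⧸ ⁅G0, G0⁆)).ncard ≤ (Jv t).ncard :=
    (Set.ncard_le_ncard (Jv_quot ht _)).trans Set.ncard_image_le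
  rw [card_eq_card_quotient_mul_card_subgroup ⁅G0, G0⁆, h3]
  exact Nat.mul_le_mul (h4.trans (Nat.mul_le_mul_left _ h5)) h2

theorem bound (m : ℕ) : ∃ B : ℕ, ∀ (H : Type u) [Group H] [Finite H] (t : H), t * t = 1 → Gen t →
    (Jv t).ncard ≤ m → Nat.card H ≤ B := by
  induction m with
  | zero =>
    refine ⟨0, fun H _ _ t ht _ h => ?_⟩
    have := (Set.ncard_pos (s := Jv t)).2 ⟨1, one_mem_Jv ht⟩
    omega
  | succ m ih =>
    obtain ⟨B, hB⟩ := ih
    have key : ∃ B1 : ℕ, ∀ (H : Type u) [Group H] [Finite H] (t : H), t * t = 1 → Gen t →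
        (Jv t).ncard ≤ m + 1 → center H = ⊥ → Nat.card H ≤ B1 := by
      set c := (m + 1) ^ (m + 1) with hc
      refine ⟨1 + B * (2 * c + (2 * c ^ 2).factorial + c * (c + (m + 1))),
        fun H _ _ t ht hG h hZ => ?_⟩
      by_cases hb : (⊤ : Subgroup H) = ⊥
      · rw [← card_top, hb, card_bot]; omega
      obtain ⟨N, ⟨hN, hne⟩, hmin⟩ := WellFounded.has_min wellFounded_lt
        {N : Subgroup H | N.Normal ∧ N ≠ ⊥} ⟨⊤, inferInstance, hb⟩
      have ht' : (t : H ⧸ N) * t = 1 := by rw [← QuotientGroup.mk_mul, ht, QuotientGroup.mk_one]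
      have h1 := hB (H ⧸ N) t ht' (hG.quot N) (by have := drop ht hG hZ N hne; omega)
      have h2 := card_min ht N (fun K a b c => by
        by_contra e
        exact hmin K ⟨a, c⟩ (lt_of_le_of_ne b e)) (c := c) ((card_cent ht hG hZ).trans
          ((Nat.pow_le_pow_left h _).trans (Nat.pow_le_pow_right (by omega) h))) h
      rw [card_eq_card_quotient_mul_card_subgroup N]
      exact (Nat.mul_le_mul h1 h2).trans (Nat.le_add_left _ _)
    obtain ⟨B1, hB1⟩ := key
    refine ⟨2 * (m + 1) * B1 ^ (B1 * (B1 * B1) + 1), fun H _ _ t ht hG h => ?_⟩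
    obtain ⟨K, hN, h1, h2⟩ := exists_K ht
    have ht' : (t : H ⧸ K) * t = 1 := by rw [← QuotientGroup.mk_mul, ht, QuotientGroup.mk_one]
    have h3 := hB1 (H ⧸ K) t ht' (hG.quot K)
      (((Set.ncard_le_ncard (Jv_quot ht _)).trans Set.ncard_image_le).trans h) h2
    exact (card_le_of_K ht hG K h1 h3).trans (by gcongr)

end Cfsg.Agent.H3x.Fl
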