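import Mathlib
import Cfsg.Agent.H3x.Fl4

/-!
Passing from an involutory automorphism `α` of `G` to the involution `α` of `G ⋊ ⟨α⟩`.
-/

set_option autoImplicit false

namespace Cfsg.Agent.H3x.Fl

open Subgroup SemidirectProduct

variable {G : Type*} [Group G]

/-- `G ⋊ ⟨α⟩` -/
abbrev Ext (α : MulAut G) := G ⋊[(zpowers α).subtype] zpowers α

instance (α : MulAut G) [Finite G] : Finite (Ext α) :=
  Finite.of_equiv _ (SemidirectProduct.equivProd (φ := (zpowers α).subtype)).symm

/-- the element `α` of `G ⋊ ⟨α⟩` -/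
def tt (α : MulAut G) : Ext α := inr ⟨α, mem_zpowers α⟩

theorem tt_sq {α : MulAut G} (h : α * α = 1) : tt α * tt α = 1 := by
  rw [tt, ← map_mul, ← map_one inr]
  congr 1
  exact Subtype.ext h

theorem tt_conj (α : MulAut G) (g : G) : tt α * inl g * (tt α)⁻¹ = inl (α g) := by
  rw [tt, ← map_inv, ← inl_aut]; rfl

theorem tt_gen {α : MulAut G} (hG : closure (Set.range (fun c : G => c * (α c)⁻¹)) = ⊤) :
    Gen (tt α) := by
  intro X hX ht
  have h1 : ∀ g : G, (inl g : Ext α) ∈ X := by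
    intro g
    have : X.comap (inl : G →* Ext α) = ⊤ := by
      rw [eq_top_iff, ← hG, closure_le]
      rintro _ ⟨c, rfl⟩
      show (inl (c * (α c)⁻¹) : Ext α) ∈ X
      have := X.mul_mem (hX.conj_mem _ ht (inl c)) (X.inv_mem ht)
      rw [map_mul, map_inv, ← tt_conj]
      simpa [mul_assoc] using this
    have hg : g ∈ X.comap (inl : G →* Ext α) := this ▸ mem_top g
    exact hg
  rw [eq_top_iff]
  intro x _
  rw [← inl_left_mul_inr_right x]
  refine X.mul_mem (h1 _) ?_
  obtain ⟨a, n, rfl⟩ := x.right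
  have : (inr ⟨α ^ n, n, rfl⟩ : Ext α) = tt α ^ n := by
    rw [tt, ← map_zpow]; rfl
  exact this ▸ X.zpow_mem ht n

theorem Jv_tt {α : MulAut G} (h : α * α = 1) {x : Ext α} (hx : x ∈ Jv (tt α)) :
    ∃ g : G, Odd (orderOf g) ∧ α g = g⁻¹ ∧ x = inl g := by
  have hti : (tt α)⁻¹ = tt α := inv_eq_of_mul_eq_one_right (tt_sq h)
  have h1 : x.right = 1 := by
    have a1 : orderOf x.right ∣ orderOf x := orderOf_map_dvd (rightHom : Ext α →* _) x
    have a2 : orderOf x.right ∣ 2 := by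
      apply orderOf_dvd_of_pow_eq_one
      obtain ⟨a, n, rfl⟩ := x.right
      refine Subtype.ext ?_
      show (α ^ n) ^ 2 = 1
      rw [← zpow_natCast, ← zpow_mul, mul_comm, zpow_mul, zpow_natCast, sq, h, one_zpow]
    have h5 := Nat.dvd_gcd a2 a1
    rwa [Nat.coprime_two_left.2 hx.1, Nat.dvd_one, orderOf_eq_one_iff] at h5
  have h2 : x = inl x.left := by
    conv_lhs => rw [← inl_left_mul_inr_right x, h1, map_one, mul_one]
  refine ⟨x.left, ?_, ?_, h2⟩
  · have := hx.1
    rwa [h2, orderOf_injective _ inl_injective] at this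
  · have := hx.2
    rw [h2] at this
    have h3 := tt_conj α x.left
    rw [hti, this, ← map_inv] at h3
    exact (inl_injective h3).symm

theorem ncard_Jv_tt [Finite G] {α : MulAut G} (h : α * α = 1) :
    (Jv (tt α)).ncard ≤ Nat.card {g : G // Odd (orderOf g) ∧ α g = g⁻¹} := by
  show _ ≤ {g : G | Odd (orderOf g) ∧ α g = g⁻¹}.ncard
  refine le_trans (Set.ncard_le_ncard ?_) (Set.ncard_image_le (f := (inl : G →* Ext α)))
  intro x hx
  obtain ⟨g, a, b, c⟩ := Jv_tt h hx
  exact ⟨g, ⟨a, b⟩, c.symm⟩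

end Cfsg.Agent.H3x.Fl
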