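import Cfsg.Agent.H3x.Pre
import Cfsg.Agent.Golay.AGL
import Cfsg.Agent.Golay.Loc

set_option autoImplicit false
set_option maxRecDepth 100000

namespace Cfsg.Agent.H3x
open Cfsg.Agent.Comp Cfsg.Agent.Schur Cfsg.Agent.R3 Subgroup

namespace He

def RP : List (List Nat) :=
  [[0, 0],
   [1, 1],
   [2, 2],
   [3, 3],
   [4, 4],
   [5, 5],
   [6, 6],
   [0, 1, 0, 1],
   [2, 3, 2, 3],
   [0, 1, 2, 0, 3, 1, 3, 2],
   [0, 1, 2, 1, 3, 2, 0, 3],
   [3, 4, 3, 4],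
   [0, 4, 0, 4, 0, 4],
   [1, 4, 1, 4, 1, 4],
   [0, 2, 0, 3, 4, 2, 4],
   [0, 5, 0, 5],
   [2, 5, 2, 5],
   [0, 1, 5, 1, 5],
   [2, 3, 5, 3, 5],
   [4, 5, 4, 5, 4, 5],
   [2, 6, 2, 6],
   [3, 6, 3, 6],
   [4, 6, 4, 6],
   [5, 6, 5, 6],
   [0, 3, 0, 6, 1, 3, 1, 6],
   [0, 6, 0, 6, 0, 6, 0, 6],
   [0, 6, 1, 6, 0, 6, 1, 6],
   [1, 6, 1, 6, 1, 6, 1, 6],
   [0, 2, 4, 1, 6, 1, 4, 6, 0, 6, 2]]

theorem hRP : ∀ w ∈ RP, ∀ x ∈ w, x < 7 := by decide +kernel

namespace Tp4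

noncomputable def t0 : Tr := (Tr.leaf (nat_lit 0xfffffffff000fffffffff000fffffffff000fffffffff000fffffffff000fffffffff000fffffffff000fffffffff000fffffffff000fffffffff000fffffffff000fffffffff831fff011052430fff010073410fff033010000fff032031))

noncomputable def T : Tr := t0

def RT : List (List (List Nat)) := [
  [[nat_lit 1, nat_lit 0, nat_lit 1]],
  [],
  []]

def HT : List (List (Nat × Nat × Nat)) := [
  [(0, 2, 1)],
  [],
  []]

def R : List (List Nat) :=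
  [[0, 0],
   [1, 1],
   [0, 1, 0, 1]]

def W : List (List Nat) := []

noncomputable def P : Par := ⟨T, (nat_lit 4), (nat_lit 15), (nat_lit 48), (nat_lit 12), (nat_lit 4095), (nat_lit 5), (nat_lit 31), (nat_lit 2), (nat_lit 20), (nat_lit 32), (nat_lit 0x18820), RT⟩

noncomputable def J0 : List Nat := [
  nat_lit 0x64124691111111111111111111111111111111111111]

theorem c0 : chk T (nat_lit 4) (nat_lit 15) (nat_lit 48) (nat_lit 12) (nat_lit 4095) (nat_lit 5) (nat_lit 31) (nat_lit 2) (nat_lit 20) (nat_lit 32) (nat_lit 0x18820) (nat_lit 2) (nat_lit 3) RT (nat_lit 16) J0 (nat_lit 16) = true := by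
  decide +kernel

theorem r0 : P.RowsOK 16 32 := chk_sound P _ _ _ J0 _ _ (by decide +kernel) c0

theorem index.{u} : IndexLe.{u} 2 R W 4 :=
  indexLe_of_cert P HT (by decide +kernel)
    (show P.RowsOK 16 32 from r0)

end Tp4

theorem upP_4 : CardLe (genW (presS 7 RP) [[0], [1]]) 4 :=
  CardLe.tc (V' := []) (n := 4) (m := 1) [0, 1] Tp4.index (presS_sat 7 RP) (by decide +kernel) (by decide +kernel) (by decide +kernel) (cardLe_nil (presS 7 RP))

namespace Tp3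

noncomputable def t0 : Tr := (Tr.leaf (nat_lit 0xc77fff0170980ff0dfc36fff0f90da016057c15fff0980d709c015c74fff0140560bd0dac54fff0b60140db0fbc73fff0130fe0550bcc53fff11e013139119c33fff0bd0bf013054832fff03f0fd01207e812fff09b07c03e012871fff01105207a03d831fff03c03b011078811fff03a039038011470fff010075037036450fff035010034033000fff032031030030))

noncomputable def T : Tr := t0

def RT : List (List (List Nat)) := [
  [[nat_lit 1, nat_lit 0, nat_lit 1],
   [nat_lit 5],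
   [nat_lit 3, nat_lit 1, nat_lit 3, nat_lit 2, nat_lit 0, nat_lit 1, nat_lit 2],
   [nat_lit 1, nat_lit 2, nat_lit 0, nat_lit 3, nat_lit 1, nat_lit 3, nat_lit 2],
   [nat_lit 2, nat_lit 1, nat_lit 0, nat_lit 2, nat_lit 3, nat_lit 1, nat_lit 3]],
  [[nat_lit 5],
   [nat_lit 3, nat_lit 0, nat_lit 2, nat_lit 1, nat_lit 0, nat_lit 2, nat_lit 3],
   [nat_lit 0, nat_lit 2, nat_lit 3, nat_lit 1, nat_lit 3, nat_lit 0, nat_lit 2],
   [nat_lit 3, nat_lit 2, nat_lit 0, nat_lit 1, nat_lit 2, nat_lit 0, nat_lit 3]],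
  [[nat_lit 3, nat_lit 2, nat_lit 3],
   [nat_lit 3, nat_lit 1, nat_lit 3, nat_lit 0, nat_lit 2, nat_lit 1, nat_lit 0],
   [nat_lit 3, nat_lit 1, nat_lit 2, nat_lit 1, nat_lit 0, nat_lit 3, nat_lit 0],
   [nat_lit 1, nat_lit 3, nat_lit 2, nat_lit 0, nat_lit 3, nat_lit 0, nat_lit 1]],
  [[nat_lit 0, nat_lit 2, nat_lit 3, nat_lit 1, nat_lit 2, nat_lit 1, nat_lit 0],
   [nat_lit 2, nat_lit 3, nat_lit 2]],
  []]

def HT : List (List (Nat × Nat × Nat)) := [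
  [(0, 4, 1), (2, 0, 0), (0, 6, 4), (0, 6, 1), (1, 6, 5)],
  [(2, 1, 0), (1, 6, 3), (1, 6, 7), (0, 6, 6)],
  [(0, 5, 1), (1, 6, 1), (1, 7, 3), (0, 7, 3)],
  [(1, 7, 1), (0, 5, 0)],
  []]

def R : List (List Nat) :=
  [[0, 0],
   [1, 1],
   [2, 2],
   [3, 3],
   [0, 1, 0, 1],
   [2, 3, 2, 3],
   [0, 1, 2, 0, 3, 1, 3, 2],
   [0, 1, 2, 1, 3, 2, 0, 3]]

def W : List (List Nat) := [[0],
   [1]]

noncomputable def P : Par := ⟨T, (nat_lit 4), (nat_lit 15), (nat_lit 72), (nat_lit 12), (nat_lit 4095), (nat_lit 5), (nat_lit 31), (nat_lit 4), (nat_lit 32), (nat_lit 32), (nat_lit 0xa418820), RT⟩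

noncomputable def J0 : List Nat := [
  nat_lit 0x4e400119002044040110c4001110020288620308880151003ac4053110d7101024431890546b0c8e21]

theorem c0 : chk T (nat_lit 4) (nat_lit 15) (nat_lit 72) (nat_lit 12) (nat_lit 4095) (nat_lit 5) (nat_lit 31) (nat_lit 4) (nat_lit 32) (nat_lit 32) (nat_lit 0xa418820) (nat_lit 3) (nat_lit 7) RT (nat_lit 16) J0 (nat_lit 16) = true := by
  decide +kernel

theorem r0 : P.RowsOK 16 32 := chk_sound P _ _ _ J0 _ _ (by decide +kernel) c0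

theorem index.{u} : IndexLe.{u} 4 R W 16 :=
  indexLe_of_cert P HT (by decide +kernel)
    (show P.RowsOK 16 32 from r0)

end Tp3

theorem upP_3 : CardLe (genW (presS 7 RP) [[0], [1], [2], [3]]) 64 :=
  CardLe.tc (V' := [[0], [1]]) (n := 16) (m := 4) [0, 1, 2, 3] Tp3.index (presS_sat 7 RP) (by decide +kernel) (by decide +kernel) (by decide +kernel) upP_4

namespace Tp2

noncomputable def t0 : Tr := (Tr.leaf (nat_lit 0x7ffffffffffffffffffe000fffffffffffffffffffc001fffffffffffffffffff8003fffffffffffffffffff0007ffffffffffffffffffe000fffffffffffffffffffc001fffffffffffffffffff8003fffffffffffffffffff0007ffffffffffffffffffe000fffffffffffffffffffe129fff00a03d41ea07504ab0cbffe03506a02d0024053418fffc0a60d305980440e8811fff814812407201a0044921fff00801440a20330190003ffe03101800c0060030))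

noncomputable def T : Tr := t0

def RT : List (List (List Nat)) := [
  [[nat_lit 1, nat_lit 0, nat_lit 1],
   [nat_lit 6],
   [nat_lit 4, nat_lit 0, nat_lit 4, nat_lit 0, nat_lit 4]],
  [[nat_lit 4, nat_lit 1, nat_lit 4, nat_lit 1, nat_lit 4],
   [nat_lit 6]],
  [[nat_lit 6],
   [nat_lit 4, nat_lit 0, nat_lit 2, nat_lit 0, nat_lit 3, nat_lit 4],
   [nat_lit 0, nat_lit 3, nat_lit 4, nat_lit 2, nat_lit 4, nat_lit 0],
   [nat_lit 1, nat_lit 0, nat_lit 3, nat_lit 0, nat_lit 2, nat_lit 3, nat_lit 1],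
   [nat_lit 1, nat_lit 3, nat_lit 2, nat_lit 0, nat_lit 3, nat_lit 0, nat_lit 1]],
  [[nat_lit 6],
   [nat_lit 4, nat_lit 3, nat_lit 4],
   [nat_lit 0, nat_lit 2, nat_lit 0, nat_lit 4, nat_lit 2, nat_lit 4],
   [nat_lit 1, nat_lit 3, nat_lit 2, nat_lit 0, nat_lit 1, nat_lit 2, nat_lit 0],
   [nat_lit 1, nat_lit 3, nat_lit 0, nat_lit 2, nat_lit 1, nat_lit 0, nat_lit 2]],
  [[nat_lit 0, nat_lit 4, nat_lit 0, nat_lit 4, nat_lit 0],
   [nat_lit 1, nat_lit 4, nat_lit 1, nat_lit 4, nat_lit 1]],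
  []]

def HT : List (List (Nat × Nat × Nat)) := [
  [(0, 5, 1), (2, 0, 0), (0, 10, 1)],
  [(0, 11, 1), (2, 1, 0)],
  [(2, 2, 0), (0, 12, 6), (0, 12, 2), (1, 8, 6), (0, 8, 3)],
  [(2, 3, 0), (0, 9, 1), (1, 12, 4), (0, 7, 5), (1, 7, 2)],
  [(0, 10, 0), (0, 11, 0)],
  []]

def R : List (List Nat) :=
  [[0, 0],
   [1, 1],
   [2, 2],
   [3, 3],
   [4, 4],
   [0, 1, 0, 1],
   [2, 3, 2, 3],
   [0, 1, 2, 0, 3, 1, 3, 2],
   [0, 1, 2, 1, 3, 2, 0, 3],
   [3, 4, 3, 4],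
   [0, 4, 0, 4, 0, 4],
   [1, 4, 1, 4, 1, 4],
   [0, 2, 0, 3, 4, 2, 4]]

def W : List (List Nat) := [[0],
   [1],
   [2],
   [3]]

noncomputable def P : Par := ⟨T, (nat_lit 4), (nat_lit 15), (nat_lit 91), (nat_lit 13), (nat_lit 8191), (nat_lit 5), (nat_lit 31), (nat_lit 5), (nat_lit 22), (nat_lit 32), (nat_lit 0x18a418820), RT⟩

noncomputable def J0 : List Nat := [
  nat_lit 0x1390004e4001190004640406e218891044756151b80626e21084210842108421084210842108421084210842108421084210842108421084210842108421]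

theorem c0 : chk T (nat_lit 4) (nat_lit 15) (nat_lit 91) (nat_lit 13) (nat_lit 8191) (nat_lit 5) (nat_lit 31) (nat_lit 5) (nat_lit 22) (nat_lit 32) (nat_lit 0x18a418820) (nat_lit 3) (nat_lit 7) RT (nat_lit 16) J0 (nat_lit 16) = true := by
  decide +kernel

theorem r0 : P.RowsOK 16 32 := chk_sound P _ _ _ J0 _ _ (by decide +kernel) c0

theorem index.{u} : IndexLe.{u} 5 R W 6 :=
  indexLe_of_cert P HT (by decide +kernel)
    (show P.RowsOK 16 32 from r0)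

end Tp2

theorem upP_2 : CardLe (genW (presS 7 RP) [[0], [1], [2], [3], [4]]) 384 :=
  CardLe.tc (V' := [[0], [1], [2], [3]]) (n := 6) (m := 64) [0, 1, 2, 3, 4] Tp2.index (presS_sat 7 RP) (by decide +kernel) (by decide +kernel) (by decide +kernel) upP_3

namespace Tp1

noncomputable def t0 : Tr := (Tr.leaf (nat_lit 0x7ffffffffffffffffffffff0007ffffffffffffffffffffff0007ffffffffffffffffffffff0007ffffffffffffffffffffff0007ffffffffffffffffffffff0007ffffffffffffffffffffff0007ffffffffffffffffffffff0007ffffffffffffffffffffff0007ffffffffffffffffffffffa4afffc16c01508b045812c096819fffc12803607a83540260546197ffc0ea07407a03500240756097ffc0e6073059824c06a012448fffc0a401103901c80680332587ffc02003202881440a20510007ffc06203001800c0060030))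

noncomputable def T : Tr := t0

def RT : List (List (List Nat)) := [
  [[nat_lit 1, nat_lit 0, nat_lit 1],
   [nat_lit 7],
   [nat_lit 5, nat_lit 0, nat_lit 5],
   [nat_lit 4, nat_lit 0, nat_lit 4, nat_lit 0, nat_lit 4]],
  [[nat_lit 4, nat_lit 1, nat_lit 4, nat_lit 1, nat_lit 4],
   [nat_lit 7],
   [nat_lit 5, nat_lit 0, nat_lit 1, nat_lit 5]],
  [[nat_lit 7],
   [nat_lit 5, nat_lit 2, nat_lit 5],
   [nat_lit 4, nat_lit 0, nat_lit 2, nat_lit 0, nat_lit 3, nat_lit 4],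
   [nat_lit 0, nat_lit 3, nat_lit 4, nat_lit 2, nat_lit 4, nat_lit 0],
   [nat_lit 1, nat_lit 0, nat_lit 3, nat_lit 0, nat_lit 2, nat_lit 3, nat_lit 1],
   [nat_lit 1, nat_lit 3, nat_lit 2, nat_lit 0, nat_lit 3, nat_lit 0, nat_lit 1]],
  [[nat_lit 7],
   [nat_lit 5, nat_lit 2, nat_lit 3, nat_lit 5],
   [nat_lit 4, nat_lit 3, nat_lit 4],
   [nat_lit 0, nat_lit 2, nat_lit 0, nat_lit 4, nat_lit 2, nat_lit 4],
   [nat_lit 1, nat_lit 3, nat_lit 2, nat_lit 0, nat_lit 1, nat_lit 2, nat_lit 0],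
   [nat_lit 1, nat_lit 3, nat_lit 0, nat_lit 2, nat_lit 1, nat_lit 0, nat_lit 2]],
  [[nat_lit 0, nat_lit 4, nat_lit 0, nat_lit 4, nat_lit 0],
   [nat_lit 1, nat_lit 4, nat_lit 1, nat_lit 4, nat_lit 1],
   [nat_lit 7]],
  [[nat_lit 4, nat_lit 5, nat_lit 4, nat_lit 5, nat_lit 4],
   [nat_lit 0, nat_lit 5, nat_lit 0],
   [nat_lit 1, nat_lit 5, nat_lit 0, nat_lit 1]],
  []]

def HT : List (List (Nat × Nat × Nat)) := [
  [(0, 6, 1), (2, 0, 0), (0, 14, 1), (0, 11, 1)],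
  [(0, 12, 1), (2, 1, 0), (0, 16, 4)],
  [(2, 2, 0), (0, 15, 1), (0, 13, 6), (0, 13, 2), (1, 9, 6), (0, 9, 3)],
  [(2, 3, 0), (0, 17, 4), (0, 10, 1), (1, 13, 4), (0, 8, 5), (1, 8, 2)],
  [(0, 11, 0), (0, 12, 0), (2, 4, 0)],
  [(0, 18, 0), (0, 14, 0), (0, 16, 3)],
  []]

def R : List (List Nat) :=
  [[0, 0],
   [1, 1],
   [2, 2],
   [3, 3],
   [4, 4],
   [5, 5],
   [0, 1, 0, 1],
   [2, 3, 2, 3],
   [0, 1, 2, 0, 3, 1, 3, 2],
   [0, 1, 2, 1, 3, 2, 0, 3],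
   [3, 4, 3, 4],
   [0, 4, 0, 4, 0, 4],
   [1, 4, 1, 4, 1, 4],
   [0, 2, 0, 3, 4, 2, 4],
   [0, 5, 0, 5],
   [2, 5, 2, 5],
   [0, 1, 5, 1, 5],
   [2, 3, 5, 3, 5],
   [4, 5, 4, 5, 4, 5]]

def W : List (List Nat) := [[0],
   [1],
   [2],
   [3],
   [4]]

noncomputable def P : Par := ⟨T, (nat_lit 4), (nat_lit 15), (nat_lit 104), (nat_lit 13), (nat_lit 8191), (nat_lit 5), (nat_lit 31), (nat_lit 6), (nat_lit 23), (nat_lit 32), (nat_lit 0x398a418820), RT⟩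

noncomputable def J0 : List Nat := [
  nat_lit 0x2720009c8002320008c8002b2032362210248a0c45a98447e702a3b801aa48a08421084210842108421084210842108421084210842108421084210842108421084210842108421]

theorem c0 : chk T (nat_lit 4) (nat_lit 15) (nat_lit 104) (nat_lit 13) (nat_lit 8191) (nat_lit 5) (nat_lit 31) (nat_lit 6) (nat_lit 23) (nat_lit 32) (nat_lit 0x398a418820) (nat_lit 3) (nat_lit 7) RT (nat_lit 16) J0 (nat_lit 16) = true := by
  decide +kernel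

theorem r0 : P.RowsOK 16 32 := chk_sound P _ _ _ J0 _ _ (by decide +kernel) c0

theorem index.{u} : IndexLe.{u} 6 R W 7 :=
  indexLe_of_cert P HT (by decide +kernel)
    (show P.RowsOK 16 32 from r0)

end Tp1

theorem upP_1 : CardLe (genW (presS 7 RP) [[0], [1], [2], [3], [4], [5]]) 2688 :=
  CardLe.tc (V' := [[0], [1], [2], [3], [4]]) (n := 7) (m := 384) [0, 1, 2, 3, 4, 5] Tp1.index (presS_sat 7 RP) (by decide +kernel) (by decide +kernel) (by decide +kernel) upP_2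

namespace Tp0

noncomputable def t0 : Tr := (Tr.leaf (nat_lit 0x7fffffffffffffffffffffffff8003fffffffffffffffffffffffffc001fffffffffffffffffffffffffe000ffffffffffffffffffffffffff0007fffffffffffffffffffffffff8003fffffffffffffffffffffffffc001fffffffffffffffffffffffffe000ffffffffffffffffffffffffff86a7ffc02813509b825c12e07703bb34bffe01204b034c0ec0b602b0159925fff099855c02407503a84d40eac32fff80dc12611405a01d0024053418fffc22a07407b014c0e601103a2047ffe03603900d40a409201a00449a1fff00801440a205102880cc064000fff80c406003001800c0060030))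

noncomputable def T : Tr := t0

def RT : List (List (List Nat)) := [
  [[nat_lit 1, nat_lit 0, nat_lit 1],
   [nat_lit 8],
   [nat_lit 6, nat_lit 0, nat_lit 6, nat_lit 0, nat_lit 6, nat_lit 0, nat_lit 6],
   [nat_lit 6, nat_lit 1, nat_lit 6, nat_lit 0, nat_lit 6, nat_lit 1, nat_lit 6],
   [nat_lit 4, nat_lit 0, nat_lit 4, nat_lit 0, nat_lit 4]],
  [[nat_lit 8],
   [nat_lit 6, nat_lit 0, nat_lit 6, nat_lit 1, nat_lit 6, nat_lit 0, nat_lit 6],
   [nat_lit 6, nat_lit 1, nat_lit 6, nat_lit 1, nat_lit 6, nat_lit 1, nat_lit 6],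
   [nat_lit 4, nat_lit 1, nat_lit 4, nat_lit 1, nat_lit 4]],
  [[nat_lit 8],
   [nat_lit 6, nat_lit 2, nat_lit 6],
   [nat_lit 4, nat_lit 0, nat_lit 2, nat_lit 0, nat_lit 3, nat_lit 4],
   [nat_lit 1, nat_lit 3, nat_lit 2, nat_lit 0, nat_lit 3, nat_lit 0, nat_lit 1],
   [nat_lit 0, nat_lit 3, nat_lit 1, nat_lit 3, nat_lit 2, nat_lit 0, nat_lit 1],
   [nat_lit 1, nat_lit 0, nat_lit 2, nat_lit 3, nat_lit 1, nat_lit 3, nat_lit 0]],
  [[nat_lit 8],
   [nat_lit 6, nat_lit 3, nat_lit 6],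
   [nat_lit 1, nat_lit 6, nat_lit 0, nat_lit 3, nat_lit 0, nat_lit 6, nat_lit 1],
   [nat_lit 0, nat_lit 6, nat_lit 1, nat_lit 3, nat_lit 1, nat_lit 6, nat_lit 0],
   [nat_lit 4, nat_lit 3, nat_lit 4],
   [nat_lit 1, nat_lit 2, nat_lit 1, nat_lit 0, nat_lit 3, nat_lit 0, nat_lit 2]],
  [[nat_lit 8],
   [nat_lit 6, nat_lit 4, nat_lit 6],
   [nat_lit 2, nat_lit 0, nat_lit 2, nat_lit 6, nat_lit 0, nat_lit 6, nat_lit 4, nat_lit 1, nat_lit 6, nat_lit 1],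
   [nat_lit 0, nat_lit 4, nat_lit 0, nat_lit 4, nat_lit 0]],
  [[nat_lit 8],
   [nat_lit 6, nat_lit 5, nat_lit 6],
   [nat_lit 0, nat_lit 5, nat_lit 0],
   [nat_lit 1, nat_lit 5, nat_lit 0, nat_lit 1]],
  [[nat_lit 4, nat_lit 6, nat_lit 4]],
  []]

def HT : List (List (Nat × Nat × Nat)) := [
  [(0, 7, 1), (2, 0, 0), (0, 25, 1), (0, 26, 1), (0, 12, 1)],
  [(2, 1, 0), (0, 26, 3), (0, 27, 1), (0, 13, 1)],
  [(2, 2, 0), (0, 20, 1), (0, 14, 6), (0, 10, 3), (0, 9, 3), (1, 9, 6)],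
  [(2, 3, 0), (0, 21, 1), (0, 24, 6), (0, 24, 2), (0, 11, 1), (1, 10, 4)],
  [(2, 4, 0), (0, 22, 1), (1, 28, 9), (0, 12, 0)],
  [(2, 5, 0), (0, 23, 1), (0, 15, 0), (0, 17, 3)],
  [(0, 22, 0)],
  []]

def R : List (List Nat) :=
  [[0, 0],
   [1, 1],
   [2, 2],
   [3, 3],
   [4, 4],
   [5, 5],
   [6, 6],
   [0, 1, 0, 1],
   [2, 3, 2, 3],
   [0, 1, 2, 0, 3, 1, 3, 2],
   [0, 1, 2, 1, 3, 2, 0, 3],
   [3, 4, 3, 4],
   [0, 4, 0, 4, 0, 4],
   [1, 4, 1, 4, 1, 4],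
   [0, 2, 0, 3, 4, 2, 4],
   [0, 5, 0, 5],
   [2, 5, 2, 5],
   [0, 1, 5, 1, 5],
   [2, 3, 5, 3, 5],
   [4, 5, 4, 5, 4, 5],
   [2, 6, 2, 6],
   [3, 6, 3, 6],
   [4, 6, 4, 6],
   [5, 6, 5, 6],
   [0, 3, 0, 6, 1, 3, 1, 6],
   [0, 6, 0, 6, 0, 6, 0, 6],
   [0, 6, 1, 6, 0, 6, 1, 6],
   [1, 6, 1, 6, 1, 6, 1, 6],
   [0, 2, 4, 1, 6, 1, 4, 6, 0, 6, 2]]

def W : List (List Nat) := [[0],
   [1],
   [2],
   [3],
   [4],
   [5]]

noncomputable def P : Par := ⟨T, (nat_lit 4), (nat_lit 15), (nat_lit 117), (nat_lit 13), (nat_lit 8191), (nat_lit 5), (nat_lit 31), (nat_lit 7), (nat_lit 24), (nat_lit 32), (nat_lit 0x8398a418820), RT⟩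

noncomputable def J0 : List Nat := [
  nat_lit 0x4e40011900046400119000464001190101b6e2188f440111b054151de801d6688018db8e21b1c6e2108421084210842108421084210842108421084210842108421084210842108421084210842108421]

theorem c0 : chk T (nat_lit 4) (nat_lit 15) (nat_lit 117) (nat_lit 13) (nat_lit 8191) (nat_lit 5) (nat_lit 31) (nat_lit 7) (nat_lit 24) (nat_lit 32) (nat_lit 0x8398a418820) (nat_lit 3) (nat_lit 7) RT (nat_lit 16) J0 (nat_lit 16) = true := by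
  decide +kernel

theorem r0 : P.RowsOK 16 32 := chk_sound P _ _ _ J0 _ _ (by decide +kernel) c0

theorem index.{u} : IndexLe.{u} 7 R W 8 :=
  indexLe_of_cert P HT (by decide +kernel)
    (show P.RowsOK 16 32 from r0)

end Tp0

theorem upP : CardLe (genW (presS 7 RP) (letters 7)) 21504 :=
  CardLe.tc (V' := [[0], [1], [2], [3], [4], [5]]) (n := 8) (m := 2688) [0, 1, 2, 3, 4, 5, 6] Tp0.index (presS_sat 7 RP) (by decide +kernel) (by decide +kernel) (by decide +kernel) upP_1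

noncomputable def y0 : Net :=
(Net.cons (nat_lit 0x324) (nat_lit 12)
(Net.cons (nat_lit 0x6000) (nat_lit 6)
(Net.cons (nat_lit 0x4000) (nat_lit 3)
(Net.cons (nat_lit 0x240000) (nat_lit 1)
(Net.cons (nat_lit 0x8240) (nat_lit 2)
(Net.cons (nat_lit 0x6144) (nat_lit 3)
(Net.cons (nat_lit 0x26000) (nat_lit 6)
(Net.cons (nat_lit 0x324) (nat_lit 12)
Net.nil))))))))

noncomputable def y1 : Net :=
(Net.cons (nat_lit 0x410) (nat_lit 12)
(Net.cons (nat_lit 0x22004) (nat_lit 6)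
(Net.cons (nat_lit 0x2084) (nat_lit 3)
(Net.cons (nat_lit 0x40008) (nat_lit 2)
(Net.cons (nat_lit 0x48048) (nat_lit 1)
(Net.cons (nat_lit 0x40208) (nat_lit 2)
(Net.cons (nat_lit 0x46084) (nat_lit 3)
(Net.cons (nat_lit 0x22004) (nat_lit 6)
(Net.cons (nat_lit 0x430) (nat_lit 12)
Net.nil)))))))))

noncomputable def y2 : Net :=
(Net.cons (nat_lit 0x498) (nat_lit 12)
(Net.cons (nat_lit 0x18000) (nat_lit 6)
(Net.cons (nat_lit 0x100180) (nat_lit 3)
(Net.cons (nat_lit 0x200040) (nat_lit 2)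
(Net.cons (nat_lit 0x240248) (nat_lit 1)
(Net.cons (nat_lit 0x200200) (nat_lit 2)
(Net.cons (nat_lit 0x103040) (nat_lit 3)
(Net.cons (nat_lit 0x18018) (nat_lit 6)
(Net.cons (nat_lit 0x498) (nat_lit 12)
Net.nil)))))))))

noncomputable def y3 : Net :=
(Net.cons (nat_lit 0xbc0) (nat_lit 12)
(Net.cons (nat_lit 0x10010) (nat_lit 6)
(Net.cons (nat_lit 0x102100) (nat_lit 3)
(Net.cons (nat_lit 0x40200) (nat_lit 2)
(Net.cons (nat_lit 0x248240) (nat_lit 1)
(Net.cons (nat_lit 0x240000) (nat_lit 2)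
(Net.cons (nat_lit 0x102100) (nat_lit 3)
(Net.cons (nat_lit 0x11010) (nat_lit 6)
(Net.cons (nat_lit 0xcd0) (nat_lit 12)
Net.nil)))))))))

noncomputable def y4 : Net :=
(Net.cons (nat_lit 0x12000) (nat_lit 6)
(Net.cons (nat_lit 0x2100) (nat_lit 3)
(Net.cons (nat_lit 0x40) (nat_lit 2)
(Net.cons (nat_lit 0x248040) (nat_lit 1)
(Net.cons (nat_lit 0x48) (nat_lit 2)
(Net.cons (nat_lit 0x2100) (nat_lit 3)
(Net.cons (nat_lit 0x12000) (nat_lit 6)
(Net.cons (nat_lit 0x504) (nat_lit 12)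
Net.nil))))))))

noncomputable def y5 : Net :=
(Net.cons (nat_lit 0xa00) (nat_lit 12)
(Net.cons (nat_lit 0x32000) (nat_lit 6)
(Net.cons (nat_lit 0x1) (nat_lit 2)
(Net.cons (nat_lit 0x240001) (nat_lit 1)
(Net.cons (nat_lit 0x8041) (nat_lit 2)
(Net.cons (nat_lit 0x2080) (nat_lit 3)
(Net.cons (nat_lit 0x32020) (nat_lit 6)
(Net.cons (nat_lit 0xa00) (nat_lit 12)
Net.nil))))))))

noncomputable def y6 : Net :=
(Net.cons (nat_lit 0x834) (nat_lit 12)
(Net.cons (nat_lit 0x12) (nat_lit 6)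
(Net.cons (nat_lit 0x102000) (nat_lit 3)
(Net.cons (nat_lit 0x240) (nat_lit 2)
(Net.cons (nat_lit 0x1240) (nat_lit 1)
(Net.cons (nat_lit 0x200249) (nat_lit 2)
(Net.cons (nat_lit 0x1061c5) (nat_lit 3)
(Net.cons (nat_lit 0x12) (nat_lit 6)
(Net.cons (nat_lit 0x834) (nat_lit 12)
Net.nil)))))))))

noncomputable def Y : List Net := [y0, y1, y2, y3, y4, y5, y6]

theorem okY : TOK 24 Y := TOK_of_ok (by decide +kernel)

theorem satY : Sat (sig Y) RP :=
  sat_of_relsP okY (by norm_num) (show relsP (nat_lit 24) (nat_lit 5) (nat_lit 0) (nat_lit 5) Y RP = true by decide +kernel)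

def lvY : List (List (List Nat) × List Nat × Nat × Nat) :=
  [([[6]], [0, 5, 6, 0], 0, 8),
   ([[5]], [0, 1, 4, 5, 1], 1, 7),
   ([[4]], [0, 3, 4, 0], 2, 6),
   ([[2], [3]], [0, 1, 2, 3, 0], 4, 16),
   ([[0], [1]], [0, 1], 5, 4)]

open Cfsg.Agent.Golay
open scoped Pointwise

theorem card0 : Nat.card (St M24 (cj (tp c2A))) = 21504 := by
  have : St M24 (cj (tp c2A)) = St (St M24 oct0) (cj (tp c2A)) :=
    le_antisymm (fun g hg => ⟨cent2A_le hg, hg.2⟩) fun g hg => ⟨hg.1.1, hg.2⟩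
  rw [this]
  exact card_inf_stabilizer card_oct0 ((isCAct_cj M24).ncard_orbit_eq inf_le_left
    gen_Oct trivial pc_2A 20 (N := 15) (by norm_num) (by decide +kernel)) (by norm_num) rfl

def cs : List ℕ := [220213109803259289183002082616117280, 590072960059042287979885064796342304, 975346028712660580592452217730074656, 968708902336673183175954409307867168, 969023153417067326868249600933935136, 233233386906768391987032901617288256, 70934699597677742212163301005530865]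

theorem iso0 : Nonempty (Pres 7 RP ≃* St M24 (cj (tp c2A))) :=
  equiv_of_in gE (w := 5) (by norm_num) (cs := cs) ((fixTest_cj (by decide +kernel)).in_St (by decide +kernel)) okY rfl
    (by decide +kernel) hRP satY upP (low_gen (l := 5) (lv := lvY) okY (by norm_num) (by decide +kernel)
      (by decide +kernel)) card0

end He

end Cfsg.Agent.H3x
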