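import Cfsg.Agent.H3x.Pre

set_option autoImplicit false

/-! Set stabilisers in permutation groups that are given by networks: order and maximality. -/

namespace Cfsg.Agent.H3x
open MulAction Subgroup Cfsg.Agent.Comp Cfsg.Agent.Schur Cfsg.Agent.R3
open scoped Pointwise commutatorElement

/-- the set `D` is a union of suborbits -/
structure Gr (M : Subgroup (Equiv.Perm ℕ)) (n B D : ℕ) (R : List Net) : Prop where
  ok : TOK n R
  all : AllIn M R
  bd : M ≤ Bd n
  hB : n ≤ 2 ^ B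
  inv : ∀ g ∈ M, g 0 = 0 → ∀ i, g i ∈ bset n D ↔ i ∈ bset n D

section
variable {M : Subgroup (Equiv.Perm ℕ)} {n B D : ℕ} {R : List Net}

theorem Gr.rowW (X : Gr M n B D R) {u : List ℕ} {x : ℕ} (hx : x < n)
    (h : mem1 R u (pt (nat_lit 0)) x = true) {y : ℕ} (hy : y < n) :
    (runZ (nat_lit 1) R u D).testBit y ↔ adj0 M n D x y := by
  have hg : ev (sig R) u ∈ M := ev_mem fun z _ => X.all z
  have hx := mem1_pt X.ok hx h
  rw [runZ_eq, testBit_runW1 X.ok _ _ hy]
  refine ⟨fun h => ⟨_, M.inv_mem hg, Equiv.Perm.inv_eq_iff_eq.mpr hx.symm, Bd.lt (by simpa using X.ok.ev_mem u) hy, by simpa using h⟩,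
    fun ⟨g', h1, h2, h3⟩ => ?_⟩
  simpa using ((X.inv _ (M.mul_mem hg h1) (by simp [h2, hx]) _).mpr h3).2

open Classical in
theorem addA_sound (X : Gr M n B D R) {k : List ℕ → Bool}
    (ws : List (ℕ × List ℕ)) : ∀ P, addA n D R ws k P = true → ∃ Q, k Q = true ∧
      ∀ y < n, val Q y = val P y + (ws.map Prod.fst).countP fun x => decide (adj0 M n D x y) := by
  induction ws with
  | nil => exact fun P h => ⟨P, h, by simp⟩
  | cons e ws ih =>
    intro P h
    change band _ (band _ (frc _ fun r => frcL (addP P r) (addA n D R ws k))) = true at h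
    rw [band_eq, band_eq, frc_eq, frcL_eq, Nat.blt_eq] at h
    obtain ⟨Q, h1, h2⟩ := ih _ h.2.2
    refine ⟨Q, h1, fun y hy => ?_⟩
    rw [h2 y hy, val_addP, List.map_cons, List.countP_cons, ← X.rowW h.1 h.2.1 hy]
    cases (runZ (nat_lit 1) R e.2 D).testBit y <;> simp
    omega

/-- the refinement, which ends when the images of the base points under `u` are cells -/
noncomputable def autC (n B D : Nat) (R : List Net) (u : List Nat) (ys : List (Nat × Nat)) (P : List Ai) :
    List Nat → Nat → Bool :=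
  @List.rec Ai (fun _ => List Nat → Nat → Bool)
    (fun L bd => band (Nat.ble (nat_lit 1) bd) (lall (fun e : Nat × Nat => band (Nat.blt e.1 n)
      (band (mem1 R u (pt e.2) e.1) (Nat.beq (cell n L e.2) (pt e.2)))) ys))
    (fun i _ ih L bd => @Ai.rec (fun _ => Bool)
      (fun x w => band (Nat.blt x n) (band (mem1 R w (pt (nat_lit 0)) x)
        (frc (Nat.div bd (popc B (cell n L x))) fun bd => frc (runZ (nat_lit 1) R w D) fun r =>
          frc (pt x) fun p => ih (r :: p :: L) bd)))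
      (fun ws => band (decide ((ws.map Prod.fst).IsChain (· < ·)))
        (band (Nat.beq (ptsS (ws.map Prod.fst)) (cell n L (nth (nat_lit 0) (ws.map Prod.fst) (nat_lit 0))))
          (addA n D R ws (fun Q => ih (Q ++ L) bd) []))) i) P

theorem autC_sound (X : Gr M n B D R) {u : List ℕ} {ys : List (ℕ × ℕ)} (hb : IsBase M (ys.map Prod.fst))
    (P : List Ai) : ∀ (L : List ℕ) (bd : ℕ) (A : Subgroup (Equiv.Perm ℕ)), A ≤ M →
    (∀ m ∈ L, ∀ σ ∈ A, ∀ i < n, m.testBit (σ i) = m.testBit i) → autC n B D R u ys P L bd = true →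
    Nat.card A ≤ bd := by
  classical
  have hc : ∀ (L : List ℕ) (A : Subgroup (Equiv.Perm ℕ)), A ≤ M →
      (∀ m ∈ L, ∀ σ ∈ A, ∀ i < n, m.testBit (σ i) = m.testBit i) →
      ∀ x, ∀ σ ∈ A, ∀ i < n, (cell n L x).testBit (σ i) ↔ (cell n L x).testBit i :=
    fun L A hA hL x σ hσ i hi => by
      rw [testBit_cell, testBit_cell]
      exact and_congr (iff_of_true (Bd.lt (X.bd (hA hσ)) hi) hi)
        (forall₂_congr fun m hm => by rw [hL m hm σ hσ i hi])
  induction P with
  | nil =>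
    intro L bd A hA hL h
    change band _ (lall _ ys) = true at h
    simp only [band_eq, lall_eq, Nat.ble_eq, Nat.blt_eq, Nat.beq_eq] at h
    have hu : ev (sig R) u ∈ M := ev_mem fun z _ => X.all z
    have : A = ⊥ := (Subgroup.eq_bot_iff_forall _).mpr fun σ hσ => by
      have := hb _ (M.mul_mem (M.mul_mem (M.inv_mem hu) (hA hσ)) hu) fun b hb => by
        obtain ⟨e, he, rfl⟩ := List.mem_map.mp hb
        obtain ⟨h1, h2, h3⟩ := h.2 e he
        have h4 := mem1_pt X.ok h1 h2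
        have h5 := hc L A hA hL e.2 σ hσ e.2 (h4 ▸ Bd.lt (X.ok.ev_mem u) h1)
        simp only [h3, testBit_pt, decide_eq_true_eq, iff_true] at h5
        rw [Equiv.Perm.mul_apply, Equiv.Perm.mul_apply, h4, ← h5, ← h4, Equiv.Perm.inv_eq_iff_eq]
      rwa [mul_assoc, inv_mul_eq_one, right_eq_mul] at this
    rw [this, Subgroup.card_bot]; exact h.1
  | cons i P ih =>
    intro L bd A hA hL h
    replace hc := hc L A hA hL
    cases i with
    | fx x w =>
      change band _ (band _ (frc _ fun bd => frc _ fun r => frc _ fun p =>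
        autC n B D R u ys P (r :: p :: L) bd)) = true at h
      simp only [band_eq, frc_eq, Nat.blt_eq] at h
      have := finite_of_le_Bd (hA.trans X.bd)
      have h1 := ih _ _ (A ⊓ stabilizer _ x) (inf_le_left.trans hA) (fun m hm σ hσ i hi => by
        have e : σ x = x := hσ.2
        simp only [List.mem_cons] at hm
        rcases hm with rfl | rfl | hm
        · rw [Bool.eq_iff_iff, X.rowW h.1 h.2.1 hi, X.rowW h.1 h.2.1 (Bd.lt (X.bd (hA hσ.1)) hi),
            ← adj0_smul (hA hσ.1) x i, e]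
        · rw [testBit_pt, testBit_pt, decide_eq_decide, ← σ.injective.eq_iff (a := x) (b := i), e]
        · exact hL m hm σ hσ.1 i hi) h.2.2
      have h2 : (orbit A x).ncard ≤ popc B (cell n L x) := by
        rw [← ncard_bset X.hB (cell_lt n L x)]
        refine Set.ncard_le_ncard ?_ ((Set.finite_lt_nat n).subset fun _ h => h.1)
        rintro _ ⟨σ, rfl⟩
        exact ⟨Bd.lt (X.bd (hA σ.2)) h.1, (hc x _ σ.2 x h.1).mpr ((testBit_cell ..).mpr ⟨h.1, fun _ _ => rfl⟩)⟩
      rw [← ((stabilizer _ x).subgroupOf A).index_mul_card, ← Subgroup.relIndex, relIndex_stabilizer,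
        ← Subgroup.card_map_of_injective A.subtype_injective, Subgroup.subgroupOf_map_subtype, inf_comm]
      exact (Nat.mul_le_mul h2 h1).trans (Nat.mul_div_le _ _)
    | ct ws =>
      change band _ (band _ (addA n D R ws (fun Q => autC n B D R u ys P (Q ++ L) bd) [])) = true at h
      simp only [band_eq, decide_eq_true_eq, Nat.beq_eq] at h
      obtain ⟨Q, h1, h2⟩ := addA_sound X ws _ h.2.2
      refine ih _ _ A hA (fun m hm σ hσ i hi => ?_) h1
      rcases List.mem_append.mp hm with hm | hm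
      swap
      · exact hL m hm σ hσ i hi
      refine val_inj ?_ m hm
      have hi' := Bd.lt (X.bd (hA hσ)) hi
      rw [h2 i hi, h2 _ hi']
      congr 1
      have e := h.2.1
      have nd : (ws.map Prod.fst).Nodup := (List.isChain_iff_pairwise.mp h.1).imp ne_of_lt
      generalize nth (nat_lit 0) (ws.map Prod.fst) (nat_lit 0) = x0 at e
      generalize ws.map Prod.fst = xs at e nd
      have lt : ∀ z ∈ xs, z < n := fun z hz =>
        ((testBit_cell n L x0 z).mp (e ▸ (testBit_ptsS xs z).mpr hz)).1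
      have mm : ∀ τ ∈ A, ∀ z ∈ xs, τ z ∈ xs := fun τ hτ z hz => by
        rw [← testBit_ptsS, e, hc x0 τ hτ z (lt z hz), ← e, testBit_ptsS]; exact hz
      have pm : (xs.map σ).Perm xs := (List.perm_ext_iff_of_nodup (nd.map σ.injective) nd).mpr
        fun z => ⟨fun hz => by obtain ⟨u, hu, rfl⟩ := List.mem_map.mp hz; exact mm σ hσ u hu,
          fun hz => List.mem_map.mpr ⟨_, mm _ (A.inv_mem hσ) z hz, by simp⟩⟩
      rw [← pm.countP_eq, List.countP_map]
      refine List.countP_congr fun z _ => ?_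
      simp only [Function.comp, decide_eq_true_eq]
      exact adj0_smul (hA hσ) z i

noncomputable def lowZ (N l : Nat) (T : List Net)
    (lv : List (List (List Nat) × List Nat × Nat × Nat)) : Bool :=
  @List.rec _ (fun _ => Bool) true (fun a r ih => band (invZ T (lowW r) (pt a.2.2.1))
    (band (frc (growZ T (a.1 ++ lowW r) a.2.1 (pt a.2.2.1)) fun S =>
      band (Nat.beq (Nat.shiftRight S N) (nat_lit 0)) (Nat.ble a.2.2.2 (popc l S))) ih)) lv

theorem lowZ_eq : lowZ = lowOK := by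
  funext N l T lv; simp only [lowZ, lowOK, orbGe, growZ_eq, invZ_eq]

end

variable {G : Type*} [Group G] {φ : G →* Equiv.Perm ℕ} {n m : ℕ} {T : List Net}

/-- the stabiliser of a set -/
def stS (φ : G →* Equiv.Perm ℕ) (n S : ℕ) : Subgroup G := (stabilizer (Equiv.Perm ℕ) (bset n S)).comap φ

theorem mem_stS {S : ℕ} {g : G} : g ∈ stS φ n S ↔ ∀ i, φ g i ∈ bset n S ↔ i ∈ bset n S :=
  mem_stabilizer_set

theorem PR.mem_stS (h : PR φ n m T) {S : ℕ} {W : List (List ℕ)} (hW : invZ T W S = true) {w : List ℕ}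
    (hw : w ∈ W) {g : G} (hg : φ g = ev (sig T) w) : g ∈ stS φ n S :=
  H3x.mem_stS.mpr (hg ▸ inv_of_invS h.ok (invZ_eq ▸ hW) (ev_mem_genW hw))

theorem PR.card_stS (h : PR φ n m T) {B D S k : ℕ} (X : Gr φ.range n B D T) {u : List ℕ} {ys : List (ℕ × ℕ)}
    (hb : IsBase φ.range (ys.map Prod.fst)) {P : List Ai} (h1 : autC n B D T u ys P [S] k = true)
    {lv : List (List (List ℕ) × List ℕ × ℕ × ℕ)} (h2 : lowZ n B T lv = true) (h3 : k ≤ lowN lv)
    (h4 : invZ T (lowW lv) S = true) : Nat.card (stS φ n S) = k := by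
  have := finite_of_le_Bd ((map_le_range φ (stS φ n S)).trans X.bd)
  rw [← card_map_of_injective h.inj]
  refine le_antisymm (autC_sound X hb P _ _ _ (map_le_range _ _) ?_ h1)
    ((h3.trans (low_sound h.ok X.hB (lowZ_eq ▸ h2))).trans (card_le_of_le (genW_le.mpr fun w hw => ?_)))
  · rintro _ hm _ ⟨g, hg, rfl⟩ i hi
    rw [List.mem_singleton.mp hm, Bool.eq_iff_iff]
    exact ⟨fun e => ((H3x.mem_stS.mp hg i).mp ⟨Bd.lt (h.bd g) hi, e⟩).2,
      fun e => ((H3x.mem_stS.mp hg i).mpr ⟨hi, e⟩).2⟩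
  · obtain ⟨g, hg⟩ : ev (sig T) w ∈ φ.range := ev_mem fun x _ => h.all x
    exact ⟨g, h.mem_stS h4 hw hg, hg⟩

noncomputable def fC (n B S N X : Nat) : Bool :=
  !bitB X (nat_lit 0) || Nat.beq X S || Nat.beq X (ivl (nat_lit 0) n) ||
    !Nat.beq (Nat.mod N (popc B X)) (nat_lit 0)

theorem PR.coatom [IsSimpleGroup G] (h : PR φ n m T) {B S N q : ℕ} (hB : n ≤ 2 ^ B) (hN : n * m = N)
    {W : List (List ℕ)} (hW : invZ T W S = true) {As : List (ℕ × List ℕ)}
    (hA : atomsB T W As (ivl (nat_lit 0) n) (fC n B S N) = true)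
    (hq : band (Nat.blt q n) (band (bitB S (nat_lit 0)) (!bitB S q)) = true) {d : G} (h1 : d ≠ 1)
    (h2 : ∀ g, φ g 0 = 0 → g * d = d * g) (h3 : d ∈ stS φ n S) : IsCoatom (stS φ n S) := by
  simp only [band_eq, bitB_eq, Nat.blt_eq, Bool.not_eq_true'] at hq
  have hn : 0 < n := Nat.zero_lt_of_lt hq.1
  refine ⟨fun e => ?_, fun K hK => by_contra fun hT => hK.not_ge ?_⟩
  · obtain ⟨g, hg⟩ := h.tr q hq.1
    have := ((H3x.mem_stS.mp (e ▸ mem_top g : g ∈ stS φ n S) 0).mpr ⟨hn, hq.2.1⟩).2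
    rw [hg, hq.2.2] at this
    exact Bool.false_ne_true this
  have iv : ∀ g ∈ K, ∀ i, φ g i ∈ orbit (K.map φ) 0 ↔ i ∈ orbit (K.map φ) 0 := fun g hg i =>
    ⟨fun ⟨u, hu⟩ => ⟨(⟨φ g, g, hg, rfl⟩ : K.map φ)⁻¹ * u, by
      simp only [mul_smul] at hu ⊢
      rw [hu]; exact inv_smul_smul (φ g) i⟩, fun ⟨u, hu⟩ => ⟨(⟨φ g, g, hg, rfl⟩ : K.map φ) * u, by
      simp only [mul_smul] at hu ⊢
      rw [hu]; rfl⟩⟩
  obtain ⟨X, a1, a2, a3⟩ := atoms_sound h.ok hA (lt_of_shift (by
      rw [Nat.beq_eq]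
      exact Nat.eq_of_testBit_eq fun i => by simp [testBit_ivl])) (X := orbit (K.map φ) 0)
    (fun w hw => by
      obtain ⟨g, hg⟩ : ev (sig T) w ∈ φ.range := ev_mem fun x _ => h.all x
      exact hg ▸ iv g (hK.le (h.mem_stS hW hw hg)))
    (by
      rintro _ ⟨⟨_, g, -, rfl⟩, rfl⟩
      have : φ g 0 < n := Bd.lt (h.bd g) hn
      exact ⟨this, by rw [testBit_ivl]; exact decide_eq_true ⟨Nat.zero_le _, (zero_add n).symm ▸ this⟩⟩)
  have a4 : 0 ∈ bset n X := a2 ▸ mem_orbit_self 0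
  simp only [fC, bitB_eq, a4.2, Bool.not_true, Bool.false_or, Bool.or_eq_true, Nat.beq_eq,
    Bool.not_eq_true', ← Bool.not_eq_true] at a3
  rcases a3 with (rfl | rfl) | a3
  · exact fun g hg => H3x.mem_stS.mpr (a2 ▸ iv g hg)
  · refine absurd (eq_top_iff.mpr ?_) hT
    have := (normalClosure_normal (s := {d})).eq_bot_or_eq_top.resolve_left fun e =>
      h1 (mem_bot.mp (e ▸ subset_normalClosure rfl))
    rw [← this, normalClosure, closure_le]
    intro x hx
    obtain ⟨_, ⟨⟩, hx⟩ := Group.mem_conjugatesOfSet_iff.mp hx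
    obtain ⟨g, rfl⟩ := isConj_iff.mp hx
    have : φ g 0 < n := Bd.lt (h.bd g) hn
    obtain ⟨⟨_, k, hk, rfl⟩, e⟩ : φ g 0 ∈ orbit (K.map φ) 0 := a2 ▸ ⟨this, by rw [testBit_ivl]; simpa using this⟩
    have := h2 (k⁻¹ * g) (by rw [map_mul, map_inv, Equiv.Perm.mul_apply, ← e]; exact inv_smul_smul (φ k) 0)
    rw [show g * d * g⁻¹ = k * (k⁻¹ * g * d) * g⁻¹ by group, this, show k * (d * (k⁻¹ * g)) * g⁻¹ = k * d * k⁻¹ by group]
    exact K.mul_mem (K.mul_mem hk (hK.le h3)) (K.inv_mem hk)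
  · refine absurd (Nat.mod_eq_zero_of_dvd ?_) a3
    rw [← ncard_bset hB a1, ← a2, ← index_stabilizer, ← hN, ← h.card]
    exact (index_dvd_card _).trans (card_map_of_injective h.inj ▸ card_subgroup_dvd_card K)

/-- the equations for iterated commutators -/
def derE (Z : List (List ℕ × List ℕ × List ℕ)) : List ℕ → List (List ℕ × List ℕ) :=
  List.rec (fun _ => []) (fun e _ ih a => (e.1 ++ a, e.2.1 ++ e.1) :: (a ++ e.2.1, e.2.2 ++ e.2.1 ++ a) :: ih e.2.2) Z

theorem der_mem {s : ℕ → G} {H : Subgroup G} (Z : List (List ℕ × List ℕ × List ℕ)) :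
    ∀ a k, ev s a ∈ (derivedSeries H k).map H.subtype → (∀ e ∈ Z, ev s e.1 ∈ H) →
      (∀ e ∈ derE Z a, ev s e.1 = ev s e.2) →
      ev s ((Z.map (·.2.2)).getLastD a) ∈ (derivedSeries H (k + Z.length)).map H.subtype := by
  induction Z with
  | nil => exact fun a k h _ _ => h
  | cons e Z ih =>
    rintro a k ⟨x, hx, ex⟩ h1 h2
    rw [List.forall_mem_cons] at h1
    change ∀ e ∈ _ :: _ :: derE Z _, _ at h2
    simp only [List.forall_mem_cons, ev_append] at h2
    rw [List.map_cons, List.getLastD_cons, List.length_cons, add_comm Z.length, ← add_assoc]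
    refine ih _ _ ⟨⁅x, ⟨_, h1.1⟩ * x * ⟨_, h1.1⟩⁻¹⁆,
      commutator_mem_commutator hx ((derivedSeries_normal H k).conj_mem x hx _), ?_⟩ h1.2 h2.2.2
    change ⁅H.subtype x, ev s e.1 * H.subtype x * (ev s e.1)⁻¹⁆ = _
    rw [ex, h2.1, mul_inv_cancel_right, commutatorElement_def, h2.2.1]
    group

theorem der_ne [Group.IsSolvable G] {k : ℕ} (h : derivedSeries G k ≠ ⊥) :
    derivedSeries G (k + 1) ≠ derivedSeries G k := fun e => by
  obtain ⟨j, hj⟩ := Group.IsSolvable.solvable (G := G)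
  have : ∀ i, derivedSeries G (k + i) = derivedSeries G k := fun i => by
    induction i with
    | zero => rfl
    | succ i ih => rw [← add_assoc, derivedSeries_succ, ih, ← derivedSeries_succ, e]
  exact h (eq_bot_iff.mpr (this j ▸ hj ▸ derivedSeries_antitone G (Nat.le_add_left j k)))

end Cfsg.Agent.H3x
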