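import Cfsg.Agent.H3x.Cx

set_option autoImplicit false

/-! Transitive faithful actions that are given by networks. -/

namespace Cfsg.Agent.H3x
open MulAction Subgroup Cfsg.Agent.Comp Cfsg.Agent.Schur Cfsg.Agent.R3 Cfsg.Agent.Fischer

variable {G : Type*} [Group G] {φ : G →* Equiv.Perm ℕ} {n m : ℕ} {T : List Net}

structure PR (φ : G →* Equiv.Perm ℕ) (n m : ℕ) (T : List Net) : Prop where
  inj : Function.Injective φ
  bd : ∀ g, φ g ∈ Bd n
  tr : ∀ i < n, ∃ g, φ g 0 = i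
  card : Nat.card G = n * m
  ok : TOK n T
  all : AllIn φ.range T

theorem PR.comp (h : PR φ n m T) {G' : Type*} [Group G'] (e : G ≃* G') :
    PR (φ.comp e.symm.toMonoidHom) n m T :=
  ⟨h.inj.comp e.symm.injective, fun _ => h.bd _, fun i hi => (h.tr i hi).imp' e fun g hg => by simpa using hg,
    (Nat.card_congr e.toEquiv).symm.trans h.card, h.ok, fun x => (h.all x).imp' e fun g hg => by simpa using hg⟩

theorem PR.ext (h : PR φ n m T) {X : List Net} (hX : TOK n X) {o : ℕ} (ho : X.length = o)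
    {D : List (List ℕ × List ℕ)} (hD : ∀ e ∈ D, ev (sig (X ++ T)) e.1 = ev (sig (X ++ T)) e.2)
    (hc : Schur.defsOK o D (fun x => Nat.ble o x) = true) : PR φ n m (X ++ T) :=
  ⟨h.inj, h.bd, h.tr, h.card, tok_append hX h.ok, h.all.ext ho hD hc⟩

theorem PR.finite (h : PR φ n m T) : Finite G :=
  haveI : Finite φ.range := finite_of_le_Bd (by rintro _ ⟨g, rfl⟩; exact h.bd g)
  Finite.of_equiv _ (MonoidHom.ofInjective h.inj).symm.toEquiv

theorem PR.sub (h : PR φ n m T) (idx : List ℕ) : PR φ n m (idx.map (nth Net.nil T)) :=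
  ⟨h.inj, h.bd, h.tr, h.card, fun _ hx => by obtain ⟨x, -, rfl⟩ := List.mem_map.mp hx; exact h.ok.nth x,
    fun x => by
      rcases nth_mem Net.nil (idx.map (nth Net.nil T)) x with e | e
      · rw [sig, e]; exact one_mem _
      · obtain ⟨y, -, e⟩ := List.mem_map.mp e
        rw [sig, ← e]; exact h.all y⟩

theorem PR.cent (h : PR φ n m T) {B : ℕ} (hB : n ≤ 2 ^ B) (hn : 0 < n) {Th : List Net} {idx : List ℕ}
    (hT : Th = idx.map (nth Net.nil T)) {o p a N : ℕ} (ho : idx.length = o) {z w : List ℕ}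
    (hc : cenB n B p T Th o z w a N = true) {t : G} (hz : φ t = ev (sig T) z) :
    Nat.card (centralizer ({t} : Set G)) * N ≤ (n - a) * m :=
  cent_le (T := []) h.inj h.bd hB hn h.ok (hT ▸ (h.sub idx).ok) (by rw [List.append_nil, hT]; exact (h.sub idx).all)
    (by rw [hT, List.length_map, ho]) hc h.tr h.card hz

/-- the word moves the point -/
noncomputable def mvB (n : Nat) (T : List Net) (w : List Nat) (p : Nat) : Bool :=
  band (Nat.blt p n) (Nat.beq (Nat.land (Nat.shiftRight (runW (nat_lit 1) T w (pt p)) p) (nat_lit 1)) (nat_lit 0))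

theorem PR.lift (h : PR φ n m T) : ∃ s : ℕ → G, (∀ w, φ (ev s w) = ev (sig T) w) ∧
    (∀ E : List (List ℕ × List ℕ), (∀ e ∈ E, ev (sig T) e.1 = ev (sig T) e.2) → ∀ e ∈ E, ev s e.1 = ev s e.2) ∧
    (∀ w p, mvB n T w p = true → ev s w ≠ 1) ∧ ∀ W, Nat.card (genW s W) = Nat.card (genW (sig T) W) := by
  obtain ⟨s, h1, h2, h3⟩ := h.all.lift h.inj
  have k : ∀ w, φ (ev s w) = ev (sig T) w := fun w => by rw [map_ev]; exact congrArg (ev · w) (funext h1)
  refine ⟨s, k, fun E hE e he => h2 _ _ (hE e he), fun w p hp e => ?_, h3⟩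
  rw [mvB, band_eq, Nat.blt_eq] at hp
  exact ne_one_of_moves h.ok hp.1 hp.2 (by rw [← k, e, map_one]; rfl)

theorem PR.cx (h : PR φ n m T) {B : ℕ} (hB : n ≤ 2 ^ B) (hn : 0 < n) {Th : List Net} {idx : List ℕ}
    (hT : Th = idx.map (nth Net.nil T)) {o p a N : ℕ} (ho : idx.length = o) {wk : List ℕ}
    (hc : cenB n B p T Th o [0] wk a N = true) {E : List (List ℕ × List ℕ)}
    (hE : ∀ e ∈ E, ev (sig T) e.1 = ev (sig T) e.2) {w L : ℕ} {U : Type} [Group U] [IsSimpleGroup U]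
    {u : ℕ → U} {RU : List (List ℕ)} (hp : IsPres u L RU) (hR : ∀ w ∈ RU, ∀ x ∈ w, x < L) {v : List ℕ}
    (hx : cxB w L RU v E = true) (hw : 0 < w) {p0 p4 c : ℕ}
    (h0 : band (mvB n T [0] p0) (mvB n T (wpow (v.map (2 * w + 1 + ·)) 4) p4) = true) (hU : Nat.card U = c)
    (hN : (n - a) * m < 2 * (2 ^ (2 * w + 1) * c) * N) :
    ∃ s : ℕ → G, (∀ w, φ (ev s w) = ev (sig T) w) ∧
      ES (gen s (2 * w + 1)) (s 0) ∧ Nat.card (gen s (2 * w + 1)) = 2 ^ (2 * w + 1) ∧
      centralizer ({s 0} : Set G) = gen s (2 * w + 1 + L) ∧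
      ∃ (_ : ((gen s (2 * w + 1)).subgroupOf (centralizer {s 0})).Normal)
        (e : U ≃* centralizer ({s 0} : Set G) ⧸ (gen s (2 * w + 1)).subgroupOf (centralizer {s 0})),
        ∀ x < L, ∃ h, e (u x) = QuotientGroup.mk ⟨s (2 * w + 1 + x), h⟩ := by
  have := h.finite
  obtain ⟨s, h1, h2, h3, -⟩ := h.lift
  rw [band_eq] at h0
  refine ⟨s, h1, H3x.cx (h2 E hE) hp hR hx hw (by simpa using h3 _ _ h0.1)
    (by rw [← ev_wpow]; exact h3 _ _ h0.2) ?_⟩
  rw [hU]
  exact lt_of_mul_lt_mul_right ((h.cent hB hn hT ho hc (t := s 0) (by simpa using h1 [0])).trans_lt hN)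
    (Nat.zero_le _)

theorem core_of_cx [Finite G] {Q : Subgroup G} {z : G} (h : ES Q z) {k : ℕ} (hk : Nat.card Q = k)
    {U : Type*} [Group U] [IsSimpleGroup U] [(Q.subgroupOf (centralizer {z})).Normal]
    (e : U ≃* centralizer ({z} : Set G) ⧸ Q.subgroupOf (centralizer {z}))
    (hU : 3 ∣ Nat.card U ∨ 5 ∣ Nat.card U) :
    pCore 2 (centralizer ({z} : Set G)) = Q.subgroupOf (centralizer {z}) ∧
    IsExtraspecial 2 (pCore 2 (centralizer ({z} : Set G))) ∧ Nat.card (pCore 2 (centralizer ({z} : Set G))) = k ∧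
      Nonempty (centralizer ({z} : Set G) ⧸ pCore 2 (centralizer ({z} : Set G)) ≃* U) := by
  have hl : Q ≤ centralizer {z} := fun x hx => mem_centralizer_singleton_iff.mpr (h.central x hx).eq.symm
  have e1 := core_eq (h.isPGroup.of_equiv (subgroupOfEquivOfLe hl).symm) e hU
  obtain ⟨a, b⟩ := es_sub h hl
  exact ⟨e1, e1 ▸ a, e1 ▸ b.trans hk, ⟨(QuotientGroup.quotientMulEquivOfEq e1).trans e.symm⟩⟩

end Cfsg.Agent.H3x
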