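import Cfsg.Agent.H3x.Net
import Cfsg.Agent.Comp.Sign
import Cfsg.Agent.Schur.Enc

set_option autoImplicit false

/-! Centralisers that are given by a presentation. -/

namespace Cfsg.Agent.H3x
open MulAction Subgroup Cfsg.Agent.Comp Cfsg.Agent.Schur Cfsg.Agent.R3

variable {G : Type*} [Group G] {φ : G →* Equiv.Perm ℕ} {n m : ℕ} {T : List Net}

theorem equiv_pres {s : ℕ → G} {L k : ℕ} {R : List (List ℕ)} (hR : ∀ w ∈ R, ∀ x ∈ w, x < L) (hs : Sat s R)
    (h1 : CardLe (gen (presS L R) L) k) (h2 : k ≤ Nat.card (gen s L)) :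
    ∃ e : Pres L R ≃* gen s L, ∀ y < L, (e (presS L R y) : G) = s y := by
  rw [presS_top] at h1
  have : Finite (Pres L R) := @Finite.of_equiv _ _ h1.1 topEquiv.toEquiv
  exact (isPres_pres hR).equiv_gen hR s hs (card_top.symm.trans_le (h1.2.trans h2))

/-- the letters commute with the word -/
def comE (L : ℕ) (z : List ℕ) : List (List ℕ × List ℕ) := (List.range L).map fun x => (x :: z, z ++ [x])

theorem gen_le_cent {s : ℕ → G} {L : ℕ} {z : List ℕ} (h : ∀ e ∈ comE L z, ev s e.1 = ev s e.2) :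
    gen s L ≤ centralizer {ev s z} := gen_le.mpr fun x hx => mem_centralizer_singleton_iff.mpr (by
  simpa using h _ (List.mem_map.mpr ⟨x, List.mem_range.mpr hx, rfl⟩))

theorem PR.cenG (h : PR φ n m T) {B : ℕ} (hB : n ≤ 2 ^ B) (hn : 0 < n) {Th : List Net} {idx : List ℕ}
    (hT : Th = idx.map (nth Net.nil T)) {o p a N : ℕ} (ho : idx.length = o) {z wk : List ℕ}
    (hc : cenB n B p T Th o z wk a N = true) {L k : ℕ}
    (hE : ∀ e ∈ comE L z, ev (sig T) e.1 = ev (sig T) e.2) (h2 : k ≤ Nat.card (gen (sig T) L))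
    (hN : (n - a) * m < 2 * k * N) : ∃ s : ℕ → G, (∀ w, φ (ev s w) = ev (sig T) w) ∧
      centralizer {ev s z} = gen s L ∧ k ≤ Nat.card (gen s L) := by
  have := h.finite
  obtain ⟨s, h1, h3, -, h4⟩ := h.lift
  have h5 : k ≤ Nat.card (gen s L) := h2.trans (h4 _).ge
  exact ⟨s, h1, (eq_of_card_lt (gen_le_cent (h3 _ hE)) ((lt_of_mul_lt_mul_right
    ((h.cent hB hn hT ho hc (h1 z)).trans_lt hN) (Nat.zero_le _)).trans_le (by omega))).symm, h5⟩

theorem PR.sat (h : PR φ n m T) {s : ℕ → G} (hs : ∀ w, φ (ev s w) = ev (sig T) w) {R : List (List ℕ)}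
    (hR : Sat (sig T) R) : Sat s R := fun w hw => h.inj (by rw [hs, hR w hw, map_one])

theorem PR.ne (h : PR φ n m T) {s : ℕ → G} (hs : ∀ w, φ (ev s w) = ev (sig T) w) {w : List ℕ} {p : ℕ}
    (hp : mvB n T w p = true) : ev s w ≠ 1 := fun e => by
  rw [mvB, band_eq, Nat.blt_eq] at hp
  exact ne_one_of_moves h.ok hp.1 hp.2 (by rw [← hs, e, map_one]; rfl)

theorem PR.two (h : PR φ n m T) {s : ℕ → G} (hs : ∀ w, φ (ev s w) = ev (sig T) w) {w : List ℕ} {p : ℕ}
    (hp : mvB n T w p = true) (h2 : Sat (sig T) [w ++ w]) : orderOf (ev s w) = 2 :=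
  Inv.two_of_mul_self (h.ne hs hp) (by simpa using h.sat hs h2 _ (List.mem_singleton_self _))

theorem equiv_of_in {α : Type} [DecidableEq α] (E : Golay.Enc α n) {w : ℕ} (hw : n ≤ 2 ^ w)
    {H : Subgroup (Equiv.Perm α)} [Finite H] {cs : List ℕ} (hin : Golay.In (E.pcode w) H cs) (hT : TOK n T)
    {L k : ℕ} (hL : cs.length = L) (hc : codeOK n w T cs = true) {R : List (List ℕ)}
    (hR : ∀ w ∈ R, ∀ x ∈ w, x < L) (hs : Sat (sig T) R) (h1 : CardLe (gen (presS L R) L) k)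
    (h2 : k ≤ Nat.card (gen (sig T) L)) (h3 : Nat.card H = k) : Nonempty (Pres L R ≃* H) := by
  let K := closure {g | g ∈ H ∧ E.pcode w g ∈ cs}
  have hK : K ≤ H := (closure_le _).mpr fun _ h => h.1
  obtain ⟨s, hs'⟩ := rep_of_gen E hw (H := K) ⟨fun c h => by
    obtain ⟨g, h1, rfl⟩ := hin c h
    exact ⟨g, subset_closure ⟨h1, h⟩, rfl⟩, closure_mono fun g h => ⟨subset_closure h, h.2⟩⟩ hT hL hc
  have h4 := hs'.card_gen (encHom_sub_injective E K)
  obtain ⟨e, -⟩ := equiv_pres hR (hs'.sat_of_inj (encHom_sub_injective E K) hR hs) h1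
    (by rw [hs'.top, card_top]; omega)
  exact ⟨e.trans (((MulEquiv.subgroupCongr hs'.top).trans topEquiv).trans
    (MulEquiv.subgroupCongr (eq_of_le_of_card_ge hK (by omega))))⟩

end Cfsg.Agent.H3x
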